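import Groth.Agent.L11.IsoNat.Sep
import Mathlib.RingTheory.DiscreteValuationRing.Basic

/-!
The generic point of a discrete valuation ring is an open, schematically dense part.
-/

set_option autoImplicit false
set_option backward.isDefEq.respectTransparency false
set_option backward.isDefEq.respectTransparency.types false

universe u

open CategoryTheory AlgebraicGeometry

noncomputable section

namespace Groth.L11.IsoNat.Dbl

/-- Two points of a separated map which agree on a dense part agree. -/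
theorem point_ext {S : Scheme.{u}} {F F' : AlgSp.Sp S} {d : F ⟶ F'} (hd : AlgSp.IsSeparatedMor d) {V W : Over S}
    {σ τ : (AlgSp.yon S).obj W ⟶ F} (e : σ ≫ d = τ ≫ d) {j : V ⟶ W} (hj : ClosedDense j)
    (h : (AlgSp.yon S).map j ≫ σ = (AlgSp.yon S).map j ≫ τ) : σ = τ := by
  obtain ⟨Z, fst, snd, sq, hcl⟩ : ∃ (Z : Over S) (fst : (AlgSp.yon S).obj Z ⟶ F) (snd : Z ⟶ W),
      IsPullback fst ((AlgSp.yon S).map snd) (Limits.pullback.diagonal d) (Limits.pullback.lift σ τ e) ∧
        IsClosedImmersion snd.left :=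
    ⟨_, _, _, hd.1.isPullback _, Groth.L23.repWith_snd hd _⟩
  have h1 : fst = (AlgSp.yon S).map snd ≫ σ := by
    simpa using congrArg (· ≫ Limits.pullback.fst d d) sq.w
  have h2 : fst = (AlgSp.yon S).map snd ≫ τ := by
    simpa using congrArg (· ≫ Limits.pullback.snd d d) sq.w
  obtain ⟨l, hl⟩ := (AlgSp.yon S).map_surjective (sq.lift ((AlgSp.yon S).map j ≫ σ) ((AlgSp.yon S).map j) (by
    apply Limits.pullback.hom_ext <;> simp [h]))
  have hls : l ≫ snd = j := (AlgSp.yon S).map_injective (by rw [Functor.map_comp, hl, sq.lift_snd])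
  have := hcl
  have : IsIso snd.left := hj snd.left ⟨l.left, congrArg CommaMorphism.left hls⟩
  have : IsIso ((Over.forget S).map snd) := this
  have : IsIso snd := isIso_of_reflects_iso snd (Over.forget S)
  rw [← cancel_epi ((AlgSp.yon S).map snd), ← h1, h2]

variable {A K : Type u} [CommRing A] [IsDomain A] [Field K] [Algebra A K] [IsFractionRing A K]

theorem isOpenImmersion_generic [IsDiscreteValuationRing A] :
    IsOpenImmersion (Spec.map (CommRingCat.ofHom (algebraMap A K))) := by
  obtain ⟨ϖ, hϖ⟩ := IsDiscreteValuationRing.exists_irreducible A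
  have : IsLocalization.Away ϖ K := by
    refine IsLocalization.iff_of_le_of_exists_dvd (Submonoid.powers ϖ) (nonZeroDivisors A)
      (powers_le_nonZeroDivisors_of_noZeroDivisors hϖ.ne_zero) (fun n hn => ?_) |>.2 inferInstance
    obtain ⟨k, hk⟩ := IsDiscreteValuationRing.associated_pow_irreducible (nonZeroDivisors.ne_zero hn) hϖ
    exact ⟨ϖ ^ k, ⟨k, rfl⟩, hk.dvd⟩
  exact IsOpenImmersion.of_isLocalization ϖ

theorem closedDense_of_generic {S : Scheme.{u}} {V W : Over S}
    (e₁ : Spec (CommRingCat.of K) ⟶ V.left) (e₂ : W.left ⟶ Spec (CommRingCat.of A)) [IsIso e₁] [IsIso e₂]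
    (j : V ⟶ W) (hj : e₁ ≫ j.left ≫ e₂ = Spec.map (CommRingCat.ofHom (algebraMap A K))) : ClosedDense j := by
  intro Z i hi ⟨l, hl⟩
  suffices IsIso (i ≫ e₂) from IsIso.of_isIso_comp_right i e₂
  obtain ⟨I, ⟨e⟩⟩ : ∃ I : Ideal A, Nonempty { e : Z ≅ Spec (CommRingCat.of (A ⧸ I)) //
      e.hom ≫ Spec.map (CommRingCat.ofHom (Ideal.Quotient.mk I)) = i ≫ e₂ } := by
    obtain ⟨I, e, he⟩ := IsClosedImmersion.Spec_iff.1 (inferInstance : IsClosedImmersion (i ≫ e₂))
    exact ⟨I, ⟨⟨e, he.symm⟩⟩⟩
  have hI : I = ⊥ := by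
    refine (Submodule.eq_bot_iff _).2 fun x hx => IsFractionRing.injective A K ?_
    obtain ⟨f, hf⟩ := (Spec.map_surjective (e₁ ≫ l ≫ e.1.hom) : ∃ f, Spec.map f = _)
    have h2 : CommRingCat.ofHom (Ideal.Quotient.mk I) ≫ f = CommRingCat.ofHom (algebraMap A K) := by
      apply Spec.map_injective
      rw [Spec.map_comp, hf, Category.assoc, Category.assoc, e.2, ← Category.assoc l, hl]
      exact hj
    have := congrArg (fun g => g.hom x) h2
    simp only [CommRingCat.hom_comp, RingHom.coe_comp, Function.comp_apply, CommRingCat.hom_ofHom] at this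
    rw [← this, Ideal.Quotient.eq_zero_iff_mem.2 hx, map_zero, map_zero]
  subst hI
  have : IsIso (CommRingCat.ofHom (Ideal.Quotient.mk (⊥ : Ideal A))) := by
    refine (ConcreteCategory.isIso_iff_bijective _).2 ⟨?_, Ideal.Quotient.mk_surjective⟩
    exact (RingHom.injective_iff_ker_eq_bot _).2 (Ideal.mk_ker)
  rw [← e.2]
  infer_instance

end Groth.L11.IsoNat.Dbl
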