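import Groth.Agent.L11.IsoNat.Dbl.Criterion
import Groth.Agent.L11.IsoNat.Dbl.Dvr
import Groth.Agent.L24.St.QcSep
import Groth.Agent.L24.St.ChartTop
import Groth.Agent.S10065

/-!
Properness of the inertia and extension of automorphisms from generic points of discrete valuation rings.
-/

set_option autoImplicit false
set_option backward.isDefEq.respectTransparency false
set_option backward.isDefEq.respectTransparency.types false

universe u

open CategoryTheory CategoryTheory.Limits AlgebraicGeometry Groth.L24.St Opposite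

noncomputable section

namespace Groth.L11.IsoNat.Dbl

variable {S : Scheme.{u}} {𝒳 : AlgSt.Cat S}

section Sections

theorem conj_comm {C : Type*} [Category C] {P Q P' Q' : C} (i : P ≅ Q) (i' : P' ≅ Q') (a : Q ⟶ Q) (a' : Q' ⟶ Q')
    (q : P ⟶ P') (h : (i.hom ≫ a ≫ i.inv) ≫ q = q ≫ i'.hom ≫ a' ≫ i'.inv) :
    (i.inv ≫ q ≫ i'.hom) ≫ a' = a ≫ i.inv ≫ q ≫ i'.hom := by
  have h4 := congrArg (fun t => i.inv ≫ t ≫ i'.hom) h
  simp at h4
  simp [h4]

variable {U : Over S} {y : FibCat.overCat U ⥤ᵇ 𝒳} {G : AlgSp.Sp S}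
  {e : AlgSt.ofSp G ⥤ᵇ FibCat.fp y (FibCat.inertiaToBase (FibCat.toSelf 𝒳))}

theorem autOf_fst {T : Over S} {l : (AlgSp.yon S).obj T ⟶ G} {b : T ⟶ U} {g : AutPt y b} (hg : AutOf y e l g) :
    l ≫ AlgSt.spMapOfOver (BasedFunctor.comp e (FibCat.fpFst y (FibCat.inertiaToBase (FibCat.toSelf 𝒳)))) =
      (AlgSp.yon S).map b := by
  obtain ⟨j, hj, -⟩ := hg
  apply (AlgSp.J S).uliftYonedaEquiv.injective
  rw [GrothendieckTopology.uliftYonedaEquiv_comp]
  have hw := Over.w j.hom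
  rw [hj] at hw
  show ULift.up (eqToHom _ ≫ (e.obj _).obj.fst.hom) = _
  refine Eq.trans (congrArg ULift.up ?_)
    (show ULift.up b = ((AlgSp.J S).uliftYonedaEquiv ((AlgSp.yon S).map b)) from ?_)
  · exact hw
  · rw [GrothendieckTopology.uliftYonedaEquiv_uliftYoneda_map]

/-- Automorphisms restrict like sections. -/
theorem aRestr_of_sections {T' T : Over S} {r : T' ⟶ T} {l : (AlgSp.yon S).obj T ⟶ G}
    {l' : (AlgSp.yon S).obj T' ⟶ G} {b' : T' ⟶ U} {b : T ⟶ U} {g' : AutPt y b'} {g : AutPt y b}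
    (h : (AlgSp.yon S).map r ≫ l = l') (hg' : AutOf y e l' g') (hg : AutOf y e l g) : ARestr r g' g := by
  subst h
  exact AutOf.restr y e r hg' hg

theorem autOf_injective (he : FibCat.IsEquivOver e) {T : Over S} {l l' : (AlgSp.yon S).obj T ⟶ G} {b : T ⟶ U}
    {g : AutPt y b} (hl : AutOf y e l g) (hl' : AutOf y e l' g) : l = l' := by
  obtain ⟨_, _⟩ := eqv_fullFaithful he
  obtain ⟨j, hj, hw⟩ := hl
  obtain ⟨j', hj', hw'⟩ := hl'
  let X := e.obj ⟨T, (AlgSp.J S).uliftYonedaEquiv l⟩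
  let X' := e.obj ⟨T, (AlgSp.J S).uliftYonedaEquiv l'⟩
  let q : X.obj.fst ⟶ X'.obj.fst := j.inv ≫ j'.hom
  have hq : (autAt y X).hom ≫ y.map q = y.map q ≫ (autAt y X').hom := by
    have k : y.map j.hom ≫ y.map j.inv = 𝟙 _ := by
      rw [← Functor.map_comp, j.hom_inv_id, CategoryTheory.Functor.map_id]
    have k' : y.map j.inv ≫ y.map j.hom = 𝟙 _ := by
      rw [← Functor.map_comp, j.inv_hom_id, CategoryTheory.Functor.map_id]
    have hm : y.map q = y.map j.inv ≫ y.map j'.hom := y.toFunctor.map_comp _ _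
    have h2 : (autAt y X).hom ≫ y.map j.inv = y.map j.inv ≫ g.g.hom := by
      calc _ = (y.map j.inv ≫ y.map j.hom) ≫ (autAt y X).hom ≫ y.map j.inv := by
            rw [k', Category.id_comp]
        _ = y.map j.inv ≫ (g.g.hom ≫ y.map j.hom) ≫ y.map j.inv :=
            (Category.assoc _ _ _).trans (congrArg (y.map j.inv ≫ ·)
              ((Category.assoc _ _ _).symm.trans (congrArg (· ≫ y.map j.inv) hw.symm)))
        _ = _ := congrArg (y.map j.inv ≫ ·) ((Category.assoc _ _ _).trans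
              ((congrArg (g.g.hom ≫ ·) k).trans (Category.comp_id _)))
    rw [hm]
    exact (Category.assoc _ _ _).symm.trans ((congrArg (· ≫ _) h2).trans ((Category.assoc _ _ _).trans
      ((congrArg (y.map j.inv ≫ ·) hw').trans (Category.assoc _ _ _).symm)))
  have hz : (X.obj.iso.inv ≫ y.map q ≫ X'.obj.iso.hom) ≫ X'.obj.snd.aut.hom =
      X.obj.snd.aut.hom ≫ X.obj.iso.inv ≫ y.map q ≫ X'.obj.iso.hom :=
    conj_comm X.obj.iso X'.obj.iso X.obj.snd.aut.hom X'.obj.snd.aut.hom (y.map q) hq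
  have hql : q.left = eqToHom ((e.w_obj ⟨T, (AlgSp.J S).uliftYonedaEquiv l⟩).trans
      (e.w_obj ⟨T, (AlgSp.J S).uliftYonedaEquiv l'⟩).symm :
      (FibCat.fp y _).p.obj X = (FibCat.fp y _).p.obj X') := by
    have h2 : j.inv.left ≫ j.hom.left = 𝟙 _ := congrArg (fun t => t.left) j.inv_hom_id
    rw [hj] at h2
    show j.inv.left ≫ j'.hom.left = _
    rw [hj', ((comp_eqToHom_iff _ _ _).1 h2).trans (Category.id_comp _), eqToHom_trans]
  let m : X ⟶ X' := fpHom q ⟨X.obj.iso.inv ≫ y.map q ≫ X'.obj.iso.hom, hz.symm⟩ (by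
    show y.map q ≫ X'.obj.iso.hom = X.obj.iso.hom ≫ X.obj.iso.inv ≫ y.map q ≫ X'.obj.iso.hom
    rw [Iso.hom_inv_id_assoc])
  obtain ⟨μ, hμ⟩ := e.toFunctor.map_surjective m
  have h2 : μ.hom = 𝟙 T := by
    have h0 := Functor.congr_hom e.w μ
    have h1 : (FibCat.fp y _).p.map (e.map μ) = q.left := by
      show (e.toFunctor.map μ).hom.fst.left = q.left
      rw [hμ]
      rfl
    change (FibCat.fp y _).p.map (e.map μ) = _ at h0
    rw [h1, hql] at h0
    have := (congrArg (fun t => eqToHom (e.w_obj _).symm ≫ t ≫ eqToHom (e.w_obj _)) h0).symm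
    simpa using this
  apply (AlgSp.J S).uliftYonedaEquiv.injective
  have := μ.map_sec
  rw [h2] at this
  simpa using this.symm

end Sections

/-- The generic point of the spectrum of a domain over the base. -/
abbrev gen (A K : Type u) [CommRing A] [Field K] [Algebra A K] (str : Spec (.of A) ⟶ S) :
    Over.mk (Spec.map (CommRingCat.ofHom (algebraMap A K)) ≫ str) ⟶ Over.mk str :=
  Over.homMk (Spec.map (CommRingCat.ofHom (algebraMap A K))) rfl

instance gen_isOpenImmersion (A K : Type u) [CommRing A] [IsDomain A] [IsDiscreteValuationRing A] [Field K]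
    [Algebra A K] [IsFractionRing A K] (str : Spec (.of A) ⟶ S) : IsOpenImmersion (gen A K str).left :=
  isOpenImmersion_generic

section Valuative

variable {U : Over S} {y : FibCat.overCat U ⥤ᵇ 𝒳} {G : AlgSp.Space S}
  {e : AlgSt.ofSp G.obj ⥤ᵇ FibCat.fp y (FibCat.inertiaToBase (FibCat.toSelf 𝒳))}

theorem qs_of_sep {F F' : AlgSp.Sp S} {d : F ⟶ F'} (h : AlgSp.IsSeparatedMor d) : AlgSp.IsQuasiSeparatedMor d :=
  Groth.L23.repWith_mono (fun {X Y} (φ : X ⟶ Y) (_ : IsClosedImmersion φ) => inferInstanceAs (QuasiCompact φ)) h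

theorem exists_lift_of_proper (he : FibCat.IsEquivOver e)
    (hpr : AlgSp.IsProperMor
      (AlgSt.spMapOfOver (BasedFunctor.comp e (FibCat.fpFst y (FibCat.inertiaToBase (FibCat.toSelf 𝒳))))))
    {A K : Type u} [CommRing A] [IsDomain A] [ValuationRing A] [Field K] [Algebra A K] [IsFractionRing A K]
    {str : Spec (.of A) ⟶ S} (b : Over.mk str ⟶ U)
    {bK : Over.mk (Spec.map (CommRingCat.ofHom (algebraMap A K)) ≫ str) ⟶ U}
    (hb : gen A K str ≫ b = bK) (g' : AutPt y bK) : ∃ g : AutPt y b, ARestr (gen A K str) g' g := by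
  obtain ⟨lK, hlK⟩ := exists_autSection y e he g'
  suffices key : ∃ l, (AlgSp.yon S).map (gen A K str) ≫ l = lK ∧
      l ≫ AlgSt.spMapOfOver (BasedFunctor.comp e (FibCat.fpFst y (FibCat.inertiaToBase (FibCat.toSelf 𝒳)))) =
        (AlgSp.yon S).map b by
    obtain ⟨l, hl₁, hl₂⟩ := key
    obtain ⟨b₀, g, hg⟩ := exists_autOf y e l
    have h0 : b = b₀ := (AlgSp.yon S).map_injective (hl₂.symm.trans (autOf_fst hg))
    subst h0
    exact ⟨g, aRestr_of_sections hl₁ hlK hg⟩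
  let sq : AlgSp.ValSq
      (AlgSt.spMapOfOver (BasedFunctor.comp e (FibCat.fpFst y (FibCat.inertiaToBase (FibCat.toSelf 𝒳))))) :=
    { A := A
      K := K
      str := str
      top := lK
      bot := (AlgSp.yon S).map b
      comm := by rw [autOf_fst hlK, ← hb, Functor.map_comp] }
  obtain ⟨e', he'⟩ := Groth.L23.existVC_of_univClosed G.property (AlgSp.IsAlgSpace.yon_obj U) (qs_of_sep hpr.1)
    hpr.2.2 sq
  exact Groth.L23.hasLift_of_separated G.property (AlgSp.IsAlgSpace.yon_obj U) hpr.1 sq e' he'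

theorem exists_lift_of_ext (h : FibCat.IsFibGrpd 𝒳.p) (he : FibCat.IsEquivOver e)
    {A K : Type u} [CommRing A] [IsDomain A] [IsDiscreteValuationRing A] [Field K] [Algebra A K] [IsFractionRing A K]
    (str : Spec (.of A) ⟶ S) (b : Over.mk str ⟶ U)
    (lK : (AlgSp.yon S).obj (Over.mk (Spec.map (CommRingCat.ofHom (algebraMap A K)) ≫ str)) ⟶ G.obj)
    (hlK : lK ≫ AlgSt.spMapOfOver (BasedFunctor.comp e (FibCat.fpFst y (FibCat.inertiaToBase (FibCat.toSelf 𝒳)))) =
      (AlgSp.yon S).map (gen A K str) ≫ (AlgSp.yon S).map b)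
    (hext : AutExt (gen A K str) 𝒳) :
    ∃ l : (AlgSp.yon S).obj (Over.mk str) ⟶ G.obj, (AlgSp.yon S).map (gen A K str) ≫ l = lK ∧
      l ≫ AlgSt.spMapOfOver (BasedFunctor.comp e (FibCat.fpFst y (FibCat.inertiaToBase (FibCat.toSelf 𝒳)))) =
        (AlgSp.yon S).map b := by
  obtain ⟨bK, g', hg'⟩ := exists_autOf y e lK
  have hbK : gen A K str ≫ b = bK := by
    apply (AlgSp.yon S).map_injective
    rw [Functor.map_comp, ← hlK, autOf_fst hg']
  subst hbK
  obtain ⟨g, hg⟩ := hext (BasedFunctor.comp (AlgSt.overMap b) y) ⟨g'.g, g'.hg⟩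
  let g₁ : AutPt y (𝟙 (Over.mk str) ≫ b) := ⟨g.g, g.hg⟩
  have h₁ : ARestr (gen A K str) g' g₁ := by
    obtain ⟨q, hq⟩ := hg
    refine ⟨by rw [Category.id_comp], ?_⟩
    exact hq
  obtain ⟨l, hl⟩ := exists_autSection y e he g₁
  refine ⟨l, ?_, by rw [autOf_fst hl, Category.id_comp]⟩
  obtain ⟨b'', g'', hg''⟩ := exists_autOf y e ((AlgSp.yon S).map (gen A K str) ≫ l)
  have h₂ := AutOf.restr y e (gen A K str) hg'' hl
  obtain rfl : b'' = gen A K str ≫ b := by
    rw [← h₂.choose, Category.id_comp]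
  rw [ARestr.unique h h₂ h₁] at hg''
  exact autOf_injective he hg'' hg'

theorem valSq_of_ext (h : FibCat.IsFibGrpd 𝒳.p) (he : FibCat.IsEquivOver e)
    {d : G.obj ⟶ (AlgSp.yon S).obj U}
    (hd : d = AlgSt.spMapOfOver (BasedFunctor.comp e (FibCat.fpFst y (FibCat.inertiaToBase (FibCat.toSelf 𝒳)))))
    (hsep : AlgSp.IsSeparatedMor d) (sq : AlgSp.ValSq d) [IsDiscreteValuationRing sq.A]
    (hext : AutExt (gen sq.A sq.K sq.str) 𝒳) : sq.HasLift ∧ sq.HasUniq := by
  have hd' : ClosedDense (gen sq.A sq.K sq.str) :=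
    closedDense_of_generic (A := sq.A) (K := sq.K) (𝟙 _) (𝟙 _) (gen sq.A sq.K sq.str) (by simp)
  obtain ⟨b, hb⟩ := (AlgSp.yon S).map_surjective sq.bot
  have hc : sq.top ≫ d = (AlgSp.yon S).map (gen sq.A sq.K sq.str) ≫ (AlgSp.yon S).map b := by
    rw [hb]; exact sq.comm
  obtain ⟨l, hl₁, hl₂'⟩ :=
    exists_lift_of_ext h he sq.str b sq.top ((congrArg (sq.top ≫ ·) hd).symm.trans hc) hext
  have hl₂ := (congrArg (l ≫ ·) hd).trans hl₂'
  exact ⟨⟨l, hl₁, hl₂.trans hb⟩,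
    fun l₁ l₂ a₁ c₁ a₂ c₂ => point_ext hsep (c₁.trans c₂.symm) hd' (a₁.trans a₂.symm)⟩

theorem proper_of_ext (h : FibCat.IsFibGrpd 𝒳.p) (he : FibCat.IsEquivOver e) [IsLocallyNoetherian U.left]
    (hsep : AlgSp.IsSeparatedMor
      (AlgSt.spMapOfOver (BasedFunctor.comp e (FibCat.fpFst y (FibCat.inertiaToBase (FibCat.toSelf 𝒳))))))
    (hft : AlgSp.IsFiniteTypeMor
      (AlgSt.spMapOfOver (BasedFunctor.comp e (FibCat.fpFst y (FibCat.inertiaToBase (FibCat.toSelf 𝒳))))))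
    (hext : ∀ (A K : Type u) [CommRing A] [IsDomain A] [IsDiscreteValuationRing A] [Field K] [Algebra A K]
      [IsFractionRing A K] (str : Spec (.of A) ⟶ S), AutExt (gen A K str) 𝒳) :
    AlgSp.IsProperMor
      (AlgSt.spMapOfOver (BasedFunctor.comp e (FibCat.fpFst y (FibCat.inertiaToBase (FibCat.toSelf 𝒳))))) := by
  have hY : AlgSp.IsLocNoethSp ((AlgSp.yon S).obj U) :=
    ⟨U, 𝟙 _, Groth.L23.repWith_of_isIso _, Groth.L23.repWith_of_isIso _, inferInstance⟩
  refine (Groth.Agent.S10065.result S (X := G) (Y := ⟨_, AlgSp.IsAlgSpace.yon_obj U⟩)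
    (ObjectProperty.homMk (AlgSt.spMapOfOver (BasedFunctor.comp e
      (FibCat.fpFst y (FibCat.inertiaToBase (FibCat.toSelf 𝒳))))))
    (qs_of_sep hsep) hft hY).2 fun sq hA => ?_
  exact @valSq_of_ext _ _ _ _ _ _ h he _ rfl hsep sq hA (@hext sq.A sq.K _ _ hA _ _ _ sq.str)

end Valuative

end Groth.L11.IsoNat.Dbl
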