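import Groth.Agent.L11.IsoNat.Theta

/-!
A scheme over the base doubled along the complement of an open part.
-/

set_option autoImplicit false
set_option backward.isDefEq.respectTransparency false
set_option backward.isDefEq.respectTransparency.types false

universe u

open CategoryTheory CategoryTheory.Limits AlgebraicGeometry

noncomputable section

namespace Groth.L11.IsoNat.Dbl

variable {S : Scheme.{u}} {V W : Over S} (j : V ⟶ W) [IsOpenImmersion j.left]

/-- Two copies of `W` glued along `V`. -/
def Co : Over S := Over.mk (pushout.desc W.hom W.hom rfl : pushout j.left j.left ⟶ S)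

/-- The projection. -/
def proj : Co j ⟶ W := Over.homMk (pushout.desc (𝟙 W.left) (𝟙 W.left) rfl) (by
  show (pushout.desc _ _ _ : pushout j.left j.left ⟶ W.left) ≫ W.hom = pushout.desc W.hom W.hom rfl
  apply pushout.hom_ext
  · rw [pushout.inl_desc_assoc, pushout.inl_desc, Category.id_comp]
  · rw [pushout.inr_desc_assoc, pushout.inr_desc, Category.id_comp])

/-- The two copies. -/
def incl : Bool → (W ⟶ Co j)
  | true => Over.homMk (pushout.inl _ _) (pushout.inl_desc _ _ _)
  | false => Over.homMk (pushout.inr _ _) (pushout.inr_desc _ _ _)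

@[reassoc (attr := simp)] theorem incl_proj (b : Bool) : incl j b ≫ proj j = 𝟙 W := by
  apply Over.OverMorphism.ext
  cases b
  · exact pushout.inr_desc _ _ _
  · exact pushout.inl_desc _ _ _

theorem j_incl : j ≫ incl j true = j ≫ incl j false := Over.OverMorphism.ext pushout.condition

instance incl_isOpenImmersion (b : Bool) : IsOpenImmersion (incl j b).left := by
  cases b
  · exact inferInstanceAs (IsOpenImmersion (colimit.ι (span j.left j.left) WalkingSpan.right))
  · exact inferInstanceAs (IsOpenImmersion (colimit.ι (span j.left j.left) WalkingSpan.left))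

theorem mono_j : Mono j := by
  have : Mono ((Over.forget S).map j) := inferInstanceAs (Mono j.left)
  exact (Over.forget S).mono_of_mono_map this

theorem mem_range_of_eq {a b : ↥W.left} (h : (incl j true).left a = (incl j false).left b) :
    a ∈ Set.range j.left := by
  obtain ⟨k, fi, fj, x, ha, hb⟩ := (Scheme.IsLocallyDirected.ι_eq_ι_iff
    (span j.left j.left) (i := WalkingSpan.left) (j := WalkingSpan.right)).1 h
  obtain (_ | (_ | _)) := k
  · obtain rfl : fi = WalkingSpan.Hom.fst := Subsingleton.elim _ _
    simp only [span_map_fst] at ha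
    exact ⟨x, ha⟩
  · cases fj
  · cases fi

theorem jointly_surjective (c : ↥(Co j).left) : ∃ (b : Bool) (x : ↥W.left), (incl j b).left x = c := by
  obtain ⟨k, x, rfl⟩ := Scheme.IsLocallyDirected.ι_jointly_surjective (span j.left j.left) c
  obtain (_ | (_ | _)) := k
  · refine ⟨true, j.left x, ?_⟩
    exact (Scheme.Hom.comp_apply _ _ x).symm.trans (congrArg (fun f : (span j.left j.left).obj none ⟶
        colimit (span j.left j.left) => f x) (colimit.w (span j.left j.left) WalkingSpan.Hom.fst))
  · exact ⟨true, x, rfl⟩
  · exact ⟨false, x, rfl⟩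

/-- The doubled scheme is covered by the two copies. -/
def cover : Cover2 (AlgSp.J S) (Co j) PUnit.{1} where
  P b := Theta.liftSieve (incl j b)
  I _ := Theta.liftSieve (incl j true) ⊓ Theta.liftSieve (incl j false)
  cover := by
    refine GrothendieckTopology.superset_covering _ ?_ (Groth.L24.St.generate_mem_J (T := Co j)
      (fun _ : ULift.{u} Bool => W) (fun b => incl j b.down) (fun b => inferInstance) (fun b => inferInstance)
      (fun c => ?_))
    · rintro V f ⟨_, g, _, ⟨b⟩, rfl⟩
      exact ⟨b.down, g, rfl⟩
    · obtain ⟨b, x, hx⟩ := jointly_surjective j c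
      exact ⟨⟨b⟩, x, hx⟩
  le _ b := by
    cases b
    · exact inf_le_right
    · exact inf_le_left
  inter Q q ht hf := by
    refine GrothendieckTopology.superset_covering _ ?_ ((AlgSp.J S).top_mem Q)
    exact fun V f _ => ⟨PUnit.unit, Sieve.downward_closed _ ht f, Sieve.downward_closed _ hf f⟩
  disj i i' Q q hi := absurd (Subsingleton.elim i i') hi

/-- Over the intersection the projection factors through the open part. -/
theorem exists_fac {Q : Over S} (q : Q ⟶ Co j) (hq : (cover j).I ⟨⟩ q) : ∃ r : Q ⟶ V, r ≫ j = q ≫ proj j := by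
  obtain ⟨⟨l, hl⟩, ⟨l', hl'⟩⟩ := hq
  have hr : Set.range l.left ⊆ Set.range j.left := by
    rintro _ ⟨x, rfl⟩
    exact mem_range_of_eq j (b := l'.left x) (congrArg (fun f : Q ⟶ Co j => f.left x) (hl.trans hl'.symm))
  have hp : q ≫ proj j = l := by rw [← hl, Category.assoc, incl_proj, Category.comp_id]
  refine ⟨Over.homMk (IsOpenImmersion.lift j.left l.left hr) ?_, ?_⟩
  · rw [← Over.w j, ← Category.assoc, IsOpenImmersion.lift_fac]
    exact Over.w l
  · rw [hp]
    exact Over.OverMorphism.ext (IsOpenImmersion.lift_fac _ _ hr)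

/-- The generic point of the intersection. -/
theorem j_incl_mem : (cover j).I ⟨⟩ (j ≫ incl j true) := ⟨⟨j, rfl⟩, ⟨j, (j_incl j).symm⟩⟩

theorem incl_mem (b : Bool) : (cover j).P b (incl j b) := ⟨𝟙 W, Category.id_comp _⟩

end Groth.L11.IsoNat.Dbl
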