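import Groth.Agent.L11.IsoNat.Forms

/-!
Gluing two objects given on the two pieces of a cover along an isomorphism on the intersection.
-/

set_option autoImplicit false
set_option backward.isDefEq.respectTransparency false
set_option backward.isDefEq.respectTransparency.types false

universe u

open CategoryTheory CategoryTheory.Limits AlgebraicGeometry

noncomputable section

namespace Groth.L11.IsoNat

variable {S : Scheme.{u}} {𝒳 : AlgSt.Cat S} {C : Over S} {P : Bool → Sieve C}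
  (G : Bool → (FibCat.overCat C ⥤ᵇ 𝒳)) (h : FibCat.IsFibGrpd 𝒳.p) (α : Fam (P true ⊓ P false) (G true) (G false))

/-- The transition between the pieces. -/
def tw₂ (k : Over C) : (a b : Bool) → P a k.hom → P b k.hom → ((G a).obj k ⟶ (G b).obj k)
  | true, false, ha, hb => α.app k ⟨ha, hb⟩
  | false, true, ha, hb => (α.inv h).app k ⟨hb, ha⟩
  | true, true, _, _ => 𝟙 _
  | false, false, _, _ => 𝟙 _

theorem tw₂_lift (k : Over C) (a b : Bool) (ha : P a k.hom) (hb : P b k.hom) :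
    𝒳.p.IsHomLift (𝟙 k.left) (tw₂ G h α k a b ha hb) := by
  cases a <;> cases b
  · exact IsHomLift.id ((G false).w_obj k)
  · exact (α.inv h).lift k ⟨hb, ha⟩
  · exact α.lift k ⟨ha, hb⟩
  · exact IsHomLift.id ((G true).w_obj k)

theorem tw₂_nat {k l : Over C} (n : k ⟶ l) (a b : Bool) (hak : P a k.hom) (hbk : P b k.hom)
    (hal : P a l.hom) (hbl : P b l.hom) :
    (G a).map n ≫ tw₂ G h α l a b hal hbl = tw₂ G h α k a b hak hbk ≫ (G b).map n := by
  cases a <;> cases b
  · simp [tw₂]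
  · exact (α.inv h).nat n ⟨hbk, hak⟩ ⟨hbl, hal⟩
  · exact α.nat n ⟨hak, hbk⟩ ⟨hal, hbl⟩
  · simp [tw₂]

theorem tw₂_self (k : Over C) (a : Bool) (ha : P a k.hom) : tw₂ G h α k a a ha ha = 𝟙 _ := by
  cases a <;> rfl

theorem tw₂_trans (k : Over C) (a b c : Bool) (ha : P a k.hom) (hb : P b k.hom) (hc : P c k.hom) :
    tw₂ G h α k a b ha hb ≫ tw₂ G h α k b c hb hc = tw₂ G h α k a c ha hc := by
  cases a <;> cases b <;> cases c <;> simp [tw₂]

/-- An object with the two given pieces and the given transition. -/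
theorem exists_glue₂ (hst : Stk.IsStack (AlgSp.J S) 𝒳) (hcov : unionSieve P ∈ AlgSp.J S C) :
    ∃ (H : FibCat.overCat C ⥤ᵇ 𝒳) (γ : ∀ b, Fam (P b) H (G b)),
      ∀ (k : Over C) (ht : P true k.hom) (hf : P false k.hom),
        (γ true).app k ht ≫ α.app k ⟨ht, hf⟩ = (γ false).app k hf := by
  let idx : (Stk.sieveCat (unionSieve P)).obj → Bool := fun k => k.property.choose
  have hidx : ∀ k, P (idx k) k.obj.hom := fun k => k.property.choose_spec
  have hres : ∀ {k l : (Stk.sieveCat (unionSieve P)).obj} (n : k ⟶ l), P (idx l) k.obj.hom := fun {k l} n => by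
    rw [← Over.w n.hom]; exact (P _).downward_closed (hidx l) _
  have hlift : ∀ {k l : (Stk.sieveCat (unionSieve P)).obj} (n : k ⟶ l),
      𝒳.p.IsHomLift n.hom.left (tw₂ G hst.1 α k.obj (idx k) (idx l) (hidx k) (hres n) ≫ (G (idx l)).map n.hom) :=
    fun {k l} n => by
      have := lift_map (G (idx l)) n.hom
      have := tw₂_lift G hst.1 α k.obj (idx k) (idx l) (hidx k) (hres n)
      exact IsHomLift.comp_lift_id_left' 𝒳.p k.obj.left _ n.hom.left ((G (idx l)).map n.hom)
  let F₀ : (Stk.sieveCat (unionSieve P)).obj ⥤ 𝒳.obj :=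
    { obj := fun k => (G (idx k)).obj k.obj
      map := fun {k l} n => tw₂ G hst.1 α k.obj (idx k) (idx l) (hidx k) (hres n) ≫ (G (idx l)).map n.hom
      map_id := fun k => by
        show tw₂ G hst.1 α k.obj (idx k) (idx k) _ _ ≫ (G (idx k)).map (𝟙 k.obj) = _
        rw [(G (idx k)).toFunctor.map_id, Category.comp_id]
        exact tw₂_self G hst.1 α k.obj _ _
      map_comp := fun {k l m} n p => by
        have hkm : P (idx m) k.obj.hom := hres (n ≫ p)
        show tw₂ G hst.1 α k.obj (idx k) (idx m) _ _ ≫ (G (idx m)).map (n.hom ≫ p.hom) = _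
        rw [(G (idx m)).toFunctor.map_comp, Category.assoc,
          reassoc_of% (tw₂_nat G hst.1 α n.hom (idx l) (idx m) (hres n) hkm (hidx l) (hres p)),
          ← Category.assoc (tw₂ G hst.1 α k.obj _ _ _ _) (tw₂ G hst.1 α k.obj _ _ _ _), tw₂_trans] }
  let F : Stk.sieveCat (unionSieve P) ⥤ᵇ 𝒳 :=
    { toFunctor := F₀
      w := CategoryTheory.Functor.ext (fun k => (G (idx k)).w_obj k.obj) (fun k l n =>
        have := hlift n
        IsHomLift.fac' 𝒳.p n.hom.left (F₀.map n)) }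
  have : (Stk.resSieve (unionSieve P) 𝒳).IsEquivalence := hst.2 (unionSieve P) hcov
  let H := (Stk.resSieve (unionSieve P) 𝒳).objPreimage F
  let e : (Stk.resSieve (unionSieve P) 𝒳).obj H ≅ F := (Stk.resSieve (unionSieve P) 𝒳).objObjPreimageIso F
  let γ : ∀ b, Fam (P b) H (G b) := fun b =>
    { app := fun k hk => e.hom.toNatTrans.app ⟨k, b, hk⟩ ≫
        tw₂ G hst.1 α k (idx ⟨k, b, hk⟩) b (hidx ⟨k, b, hk⟩) hk
      lift := fun k hk => by
        have h1 : 𝒳.p.IsHomLift (𝟙 k.left) (e.hom.toNatTrans.app ⟨k, b, hk⟩) := e.hom.isHomLift' ⟨k, b, hk⟩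
        have h2 := tw₂_lift G hst.1 α k (idx ⟨k, b, hk⟩) b (hidx ⟨k, b, hk⟩) hk
        exact vert_comp (Q := k.left) _ _
      nat := fun {k l} n hk hl => by
        have := e.hom.toNatTrans.naturality
          (ObjectProperty.homMk n : (⟨k, b, hk⟩ : (Stk.sieveCat (unionSieve P)).obj) ⟶ ⟨l, b, hl⟩)
        change H.map n ≫ e.hom.toNatTrans.app ⟨l, b, hl⟩ = e.hom.toNatTrans.app ⟨k, b, hk⟩ ≫ _ ≫ (G _).map n at this
        rw [reassoc_of% this, tw₂_nat G hst.1 α n (idx ⟨l, b, hl⟩) b (hres (ObjectProperty.homMk n :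
            (⟨k, b, hk⟩ : (Stk.sieveCat (unionSieve P)).obj) ⟶ ⟨l, b, hl⟩)) hk (hidx ⟨l, b, hl⟩) hl,
          Category.assoc, ← Category.assoc (tw₂ G hst.1 α k _ _ _ _) (tw₂ G hst.1 α k _ _ _ _), tw₂_trans] }
  refine ⟨H, γ, fun k ht hf => ?_⟩
  have h1 : α.app k ⟨ht, hf⟩ = tw₂ G hst.1 α k true false ht hf := rfl
  show (_ ≫ _) ≫ _ = _ ≫ _
  rw [h1, Category.assoc, tw₂_trans]

end Groth.L11.IsoNat
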