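import Groth.Agent.L11.IsoNat.Forms
import Groth.Agent.L11.IsoNat.Smooth

/-!
Vertical isomorphisms between two charts at an arrow into their base, with restriction.
-/

set_option autoImplicit false
set_option backward.isDefEq.respectTransparency false
set_option backward.isDefEq.respectTransparency.types false

universe u

open CategoryTheory CategoryTheory.Limits AlgebraicGeometry Groth.L24.St

noncomputable section

namespace Groth.L11.IsoNat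

variable {S : Scheme.{u}} {𝒳 : AlgSt.Cat S} {W : Over S} {G₁ G₂ G₃ : FibCat.overCat W ⥤ᵇ 𝒳}

/-- An isomorphism over the identity between two charts at an arrow. -/
structure IsoPt (G₁ G₂ : FibCat.overCat W ⥤ᵇ 𝒳) {T : Over S} (a : T ⟶ W) where
  g : G₁.obj (Over.mk a) ≅ G₂.obj (Over.mk a)
  hg : OverId g.hom

/-- One isomorphism is the restriction of another. -/
def IRestr {T' T : Over S} {a' : T' ⟶ W} {a : T ⟶ W} (r : T' ⟶ T) (g' : IsoPt G₁ G₂ a') (g : IsoPt G₁ G₂ a) :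
    Prop :=
  ∃ h : r ≫ a = a', g'.g.hom ≫ G₂.map (ovm r h) = G₁.map (ovm r h) ≫ g.g.hom

variable {T'' T' T : Over S} {a'' : T'' ⟶ W} {a' : T' ⟶ W} {a : T ⟶ W}

theorem exists_iRestr (h𝒳 : FibCat.IsFibGrpd 𝒳.p) (r : T' ⟶ T) (h : r ≫ a = a') (g : IsoPt G₁ G₂ a) :
    ∃ g' : IsoPt G₁ G₂ a', IRestr r g' g := by
  have := map_ovm_lift G₂ r h
  have := L09.Fib.stronglyCartesian_of_isFibGrpd _ h𝒳 r (G₂.map (ovm r h))
  have h1 : 𝒳.p.IsHomLift r (G₁.map (ovm r h) ≫ g.g.hom) := by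
    have := map_ovm_lift G₁ r h
    have : 𝒳.p.IsHomLift (𝟙 T) g.g.hom := g.hg.lift (G₁.w_obj _)
    exact IsHomLift.comp_lift_id_right' 𝒳.p r _ T g.g.hom
  let c := Functor.IsCartesian.map 𝒳.p r (G₂.map (ovm r h)) (G₁.map (ovm r h) ≫ g.g.hom)
  have hc : 𝒳.p.IsHomLift (𝟙 T') c := Functor.IsCartesian.map_isHomLift _ _ _ _
  have := L09.Fib.isIso_of_isFibGrpd _ h𝒳 (𝟙 T') c
  exact ⟨⟨asIso c, overId_of_lift hc⟩, h,
    Functor.IsCartesian.fac 𝒳.p r (G₂.map (ovm r h)) (G₁.map (ovm r h) ≫ g.g.hom)⟩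

theorem IRestr.unique (h𝒳 : FibCat.IsFibGrpd 𝒳.p) {r : T' ⟶ T} {g₁ g₂ : IsoPt G₁ G₂ a'} {g : IsoPt G₁ G₂ a}
    (h₁ : IRestr r g₁ g) (h₂ : IRestr r g₂ g) : g₁ = g₂ := by
  obtain ⟨k, w₁⟩ := h₁
  obtain ⟨_, w₂⟩ := h₂
  obtain ⟨g₁, hg₁⟩ := g₁
  obtain ⟨g₂, hg₂⟩ := g₂
  suffices g₁ = g₂ by subst this; rfl
  exact Iso.ext (ovm_cancel h𝒳 r k hg₁ hg₂ (w₁.trans w₂.symm))

theorem IRestr.trans {s : T'' ⟶ T'} {r : T' ⟶ T} {g'' : IsoPt G₁ G₂ a''} {g' : IsoPt G₁ G₂ a'} {g : IsoPt G₁ G₂ a}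
    (h' : IRestr s g'' g') (h : IRestr r g' g) : IRestr (s ≫ r) g'' g := by
  obtain ⟨k', w'⟩ := h'
  obtain ⟨k, w⟩ := h
  refine ⟨by rw [Category.assoc, k, k'], ?_⟩
  rw [show ∀ p, ovm (s ≫ r) p = ovm s k' ≫ ovm r k from fun p => Over.OverMorphism.ext rfl]
  exact (congrArg (_ ≫ ·) (G₂.toFunctor.map_comp _ _)).trans ((Category.assoc _ _ _).symm.trans
    ((congrArg (· ≫ _) w').trans ((Category.assoc _ _ _).trans ((congrArg (_ ≫ ·) w).trans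
      ((Category.assoc _ _ _).symm.trans (congrArg (· ≫ _) (G₁.toFunctor.map_comp _ _).symm))))))

/-- A restriction along a composite restricts along the first arrow. -/
theorem IRestr.of_comp (h𝒳 : FibCat.IsFibGrpd 𝒳.p) {s : T'' ⟶ T'} {r : T' ⟶ T} {g'' : IsoPt G₁ G₂ a''}
    {g' : IsoPt G₁ G₂ a'} {g : IsoPt G₁ G₂ a} (hs : s ≫ a' = a'') (h' : IRestr (s ≫ r) g'' g) (h : IRestr r g' g) :
    IRestr s g'' g' := by
  obtain ⟨q, hq⟩ := exists_iRestr h𝒳 s hs g'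
  rwa [IRestr.unique h𝒳 h' (hq.trans h)]

theorem IRestr.refl (g : IsoPt G₁ G₂ a) : IRestr (𝟙 T) g g := by
  refine ⟨Category.id_comp a, ?_⟩
  rw [show ovm (𝟙 T) (Category.id_comp a) = 𝟙 (Over.mk a) from rfl]
  exact ((congrArg (_ ≫ ·) (G₂.toFunctor.map_id _)).trans (Category.comp_id _)).trans
    ((congrArg (· ≫ _) (G₁.toFunctor.map_id _)).trans (Category.id_comp _)).symm

/-- Composition. -/
def IsoPt.comp (g : IsoPt G₁ G₂ a) (g' : IsoPt G₂ G₃ a) : IsoPt G₁ G₃ a := ⟨g.g ≪≫ g'.g, g.hg.comp g'.hg⟩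

/-- Inverse. -/
def IsoPt.symm (g : IsoPt G₁ G₂ a) : IsoPt G₂ G₁ a := ⟨g.g.symm, OverId.inv g.hg⟩

theorem IRestr.comp {r : T' ⟶ T} {g' : IsoPt G₁ G₂ a'} {g : IsoPt G₁ G₂ a} {k' : IsoPt G₂ G₃ a'}
    {k : IsoPt G₂ G₃ a} (hg : IRestr r g' g) (hk : IRestr r k' k) : IRestr r (g'.comp k') (g.comp k) := by
  obtain ⟨h, w⟩ := hg
  obtain ⟨_, w'⟩ := hk
  refine ⟨h, ?_⟩
  show (g'.g.hom ≫ k'.g.hom) ≫ _ = _ ≫ g.g.hom ≫ k.g.hom
  exact (Category.assoc _ _ _).trans ((congrArg (g'.g.hom ≫ ·) w').trans ((Category.assoc _ _ _).symm.trans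
    ((congrArg (· ≫ k.g.hom) w).trans (Category.assoc _ _ _))))

theorem IRestr.symm {r : T' ⟶ T} {g' : IsoPt G₁ G₂ a'} {g : IsoPt G₁ G₂ a} (hg : IRestr r g' g) :
    IRestr r g'.symm g.symm := by
  obtain ⟨h, w⟩ := hg
  refine ⟨h, ?_⟩
  show g'.g.inv ≫ _ = _ ≫ g.g.inv
  rw [Iso.inv_comp_eq, ← Category.assoc, Iso.eq_comp_inv]
  exact w.symm

/-- An automorphism of a chart as an isomorphism of the chart with itself. -/
def AutPt.toIso {G : FibCat.overCat W ⥤ᵇ 𝒳} (g : AutPt G a) : IsoPt G G a := ⟨g.g, g.hg⟩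

/-- An isomorphism of a chart with itself as an automorphism. -/
def IsoPt.toAut {G : FibCat.overCat W ⥤ᵇ 𝒳} (g : IsoPt G G a) : AutPt G a := ⟨g.g, g.hg⟩

end Groth.L11.IsoNat
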