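import Groth.Agent.L11.IsoNat.Classify
import Groth.Agent.L11.IsoNat.Dbl.IsoPt
import Groth.Agent.L11.IsoNat.Dbl.Cover
import Groth.Agent.L11.IsoNat.Dbl.GlueTwo

/-!
Automorphisms over an open part extend iff the objects over the doubled scheme with both copies trivial
are trivial.
-/

set_option autoImplicit false
set_option backward.isDefEq.respectTransparency false
set_option backward.isDefEq.respectTransparency.types false

universe u

open CategoryTheory CategoryTheory.Limits AlgebraicGeometry Groth.L24.St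

noncomputable section

namespace Groth.L11.IsoNat.Dbl

variable {S : Scheme.{u}} {𝒳 𝒴 : AlgSt.Cat S} {V W : Over S} (j : V ⟶ W) [IsOpenImmersion j.left]

/-- The constant object over the doubled scheme. -/
abbrev GD (G : FibCat.overCat W ⥤ᵇ 𝒳) : FibCat.overCat (Co j) ⥤ᵇ 𝒳 := BasedFunctor.comp (AlgSt.overMap (proj j)) G

section Fams

variable {j} {P : Sieve (Co j)} {G₁ G₂ : FibCat.overCat W ⥤ᵇ 𝒳}

/-- The value of a family at an arrow into the doubled scheme. -/
def valAt (h : FibCat.IsFibGrpd 𝒳.p) (φ : Fam P (GD j G₁) (GD j G₂)) {Q : Over S} (σ : Q ⟶ Co j) (hσ : P σ) :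
    IsoPt G₁ G₂ (σ ≫ proj j) :=
  have := isIso_vert h _ (φ.lift (Over.mk σ) hσ)
  ⟨asIso (φ.app (Over.mk σ) hσ), overId_of_lift (φ.lift (Over.mk σ) hσ)⟩

theorem valAt_restr (h : FibCat.IsFibGrpd 𝒳.p) (φ : Fam P (GD j G₁) (GD j G₂)) {Q Q' : Over S} (r : Q' ⟶ Q)
    {σ' : Q' ⟶ Co j} {σ : Q ⟶ Co j} (hσ' : P σ') (hσ : P σ) (e : r ≫ σ = σ') :
    IRestr r (valAt h φ σ' hσ') (valAt h φ σ hσ) := by
  refine ⟨by rw [← Category.assoc, e], ?_⟩
  exact (φ.nat (Over.homMk r e : Over.mk σ' ⟶ Over.mk σ) hσ' hσ).symm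

theorem valAt_eq_of_lift (h : FibCat.IsFibGrpd 𝒳.p) (φ : Fam P (GD j G₁) (GD j G₂)) {Q : Over S} (σ : Q ⟶ Co j)
    (hσ : P σ) : (valAt h φ σ hσ).g.hom = φ.app (Over.mk σ) hσ := rfl

theorem exists_famOfPt (h : FibCat.IsFibGrpd 𝒳.p) {U : Over S} {a : U ⟶ W} [Mono a] (g : IsoPt G₁ G₂ a)
    (hP : ∀ ⦃Q : Over S⦄ (q : Q ⟶ Co j), P q → ∃ r : Q ⟶ U, r ≫ a = q ≫ proj j) :
    ∃ φ : Fam P (GD j G₁) (GD j G₂), ∀ ⦃Q : Over S⦄ (σ : Q ⟶ Co j) (hσ : P σ) (r : Q ⟶ U),
      r ≫ a = σ ≫ proj j → IRestr r (valAt h φ σ hσ) g := by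
  have key : ∀ (k : Over (Co j)) (hk : P k.hom), ∃ (r : k.left ⟶ U) (v : IsoPt G₁ G₂ (k.hom ≫ proj j)),
      IRestr r v g := fun k hk => by
    obtain ⟨r, hr⟩ := hP k.hom hk
    exact ⟨r, exists_iRestr h r hr g⟩
  choose ρ v hv using key
  let φ : Fam P (GD j G₁) (GD j G₂) :=
    { app := fun k hk => (v k hk).g.hom
      lift := fun k hk => (v k hk).hg.lift ((GD j G₁).w_obj k)
      nat := fun {k l} n hk hl => by
        have hn : n.left ≫ l.hom ≫ proj j = k.hom ≫ proj j := by rw [← Category.assoc, Over.w n]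
        have hρ : n.left ≫ ρ l hl = ρ k hk := by
          rw [← cancel_mono a, Category.assoc, (hv l hl).choose, (hv k hk).choose, hn]
        have := hv k hk
        rw [← hρ] at this
        obtain ⟨q, hq⟩ := IRestr.of_comp h hn this (hv l hl)
        have e : (Over.map (proj j)).map n = ovm n.left q := Over.OverMorphism.ext rfl
        show G₁.map ((Over.map (proj j)).map n) ≫ _ = _ ≫ G₂.map ((Over.map (proj j)).map n)
        rw [e]
        exact hq.symm }
  refine ⟨φ, fun Q σ hσ r hr => ?_⟩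
  have hr' : r = ρ (Over.mk σ) hσ := by
    rw [← cancel_mono a, hr, (hv (Over.mk σ) hσ).choose]; rfl
  subst hr'
  obtain ⟨q, hq⟩ := hv (Over.mk σ) hσ
  exact ⟨q, hq⟩

end Fams

theorem copy_fac {b : Bool} {Q : Over S} {q : Q ⟶ Co j} (hq : (cover j).P b q) :
    𝟙 Q ≫ (q ≫ proj j) ≫ incl j b = q := by
  obtain ⟨l, rfl⟩ := hq
  simp

/-- An arrow into a copy. -/
abbrev toCopy {b : Bool} (k : Over (Co j)) (hk : (cover j).P b k.hom) :
    k ⟶ (Over.map (incl j b)).obj (Over.mk (k.hom ≫ proj j)) :=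
  Over.homMk (𝟙 k.left) (copy_fac j hk)

/-- A family on a copy from a morphism on that copy. -/
def famOfCopy {H : FibCat.overCat (Co j) ⥤ᵇ 𝒳} {G : FibCat.overCat W ⥤ᵇ 𝒳} (b : Bool)
    (θ : BasedFunctor.comp (AlgSt.overMap (incl j b)) H ⟶ G) : Fam ((cover j).P b) H (GD j G) where
  app k hk := H.map (toCopy j k hk) ≫ θ.toNatTrans.app (Over.mk (k.hom ≫ proj j))
  lift k hk := by
    have h1 := lift_map H (toCopy j k hk)
    have h2 : 𝒳.p.IsHomLift (𝟙 k.left) (θ.toNatTrans.app (Over.mk (k.hom ≫ proj j))) :=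
      θ.isHomLift' (Over.mk (k.hom ≫ proj j))
    exact @vert_comp _ _ _ k.left _ _ _ _ _ h1 h2
  nat {k l} r hk hl := by
    have hθ := θ.toNatTrans.naturality ((Over.map (proj j)).map r)
    have e : r ≫ toCopy j l hl = toCopy j k hk ≫ (Over.map (incl j b)).map ((Over.map (proj j)).map r) := by
      apply Over.OverMorphism.ext
      show r.left ≫ 𝟙 l.left = 𝟙 k.left ≫ r.left
      rw [Category.comp_id, Category.id_comp]
    refine (Category.assoc _ _ _).symm.trans ?_
    refine (congrArg (· ≫ _) ((H.toFunctor.map_comp _ _).symm.trans ((congrArg H.map e).trans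
      (H.toFunctor.map_comp _ _)))).trans ?_
    refine (Category.assoc _ _ _).trans ?_
    exact (congrArg (H.map (toCopy j k hk) ≫ ·) hθ).trans (Category.assoc _ _ _).symm

theorem pullC_incl_eq {h : FibCat.IsFibGrpd 𝒳.p} {H : FibCat.overCat (Co j) ⥤ᵇ 𝒳} {G : FibCat.overCat W ⥤ᵇ 𝒳}
    (b : Bool) (γ : Fam ((cover j).P b) H (GD j G)) :
    pullC h (incl j b) (IsoNat.objCls H) = IsoNat.objCls G := by
  have hw : ∀ k : Over W, (cover j).P b (k.hom ≫ incl j b) := fun k =>
    Sieve.downward_closed _ (incl_mem j b) k.hom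
  let c : ∀ k : Over W, (Over.map (proj j)).obj ((Over.map (incl j b)).obj k) ≅ k := fun k =>
    Over.isoMk (Iso.refl k.left) (by simp)
  obtain ⟨i⟩ := isIso_natTrans h
    (H := BasedFunctor.comp (AlgSt.overMap (incl j b)) H) (G := G)
    { app := fun k => γ.app ((Over.map (incl j b)).obj k) (hw k) ≫ G.map (c k).hom
      naturality := fun k l n => by
        show H.map ((Over.map (incl j b)).map n) ≫ γ.app _ _ ≫ G.map (c l).hom =
          (γ.app _ _ ≫ G.map (c k).hom) ≫ G.map n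
        rw [reassoc_of% γ.nat ((Over.map (incl j b)).map n) (hw k) (hw l), Category.assoc, ← Functor.map_comp]
        refine congrArg (γ.app _ _ ≫ ·) ?_
        show G.map ((Over.map (proj j)).map ((Over.map (incl j b)).map n)) ≫ G.map (c l).hom = _
        rw [← Functor.map_comp]
        refine congrArg (fun t => G.map t) (Over.OverMorphism.ext ?_)
        show n.left ≫ 𝟙 l.left = 𝟙 k.left ≫ n.left
        rw [Category.comp_id, Category.id_comp]
      isHomLift' := fun k => by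
        have h1 : 𝒳.p.IsHomLift (𝟙 k.left) (γ.app ((Over.map (incl j b)).obj k) (hw k)) :=
          γ.lift ((Over.map (incl j b)).obj k) (hw k)
        have h2 : 𝒳.p.IsHomLift (𝟙 k.left) (G.map (c k).hom) := lift_map G (c k).hom
        exact vert_comp (Q := k.left) _ _ }
  rw [pullC_objCls]
  exact objCls_eq_of_iso i

/-- Automorphisms over `V` extend to `W`. -/
def AutExt (𝒳 : AlgSt.Cat S) : Prop :=
  ∀ (G : FibCat.overCat W ⥤ᵇ 𝒳) (g' : IsoPt G G j), ∃ g : IsoPt G G (𝟙 W), IRestr j g' g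

/-- Objects over the doubled scheme with both copies trivial are trivial. -/
def ClsTriv (h : FibCat.IsFibGrpd 𝒳.p) : Prop :=
  ∀ (c₀ : IsoNat.IsoCl 𝒳 W) (c : IsoNat.IsoCl 𝒳 (Co j)), (∀ b, pullC h (incl j b) c = c₀) →
    c = pullC h (proj j) c₀

theorem clsTriv_fIso (φ : IsoNat.FIso 𝒳 𝒴) (h𝒳 : FibCat.IsFibGrpd 𝒳.p) (h𝒴 : FibCat.IsFibGrpd 𝒴.p)
    (hX : ClsTriv j h𝒳) : ClsTriv j h𝒴 := by
  intro d₀ d hd
  obtain ⟨c₀, rfl⟩ := (φ.toEquiv W).surjective d₀
  obtain ⟨c, rfl⟩ := (φ.toEquiv _).surjective d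
  rw [← fIso_pullC φ h𝒳 h𝒴, hX c₀ c fun b => (φ.toEquiv W).injective (by rw [fIso_pullC φ h𝒳 h𝒴, hd b])]

theorem clsTriv_of_autExt (hst : Stk.IsStack (AlgSp.J S) 𝒳) (he : AutExt j 𝒳) : ClsTriv j hst.1 := by
  intro c₀ c hc
  obtain ⟨G, rfl⟩ := exists_chart hst.1 c₀
  obtain ⟨H, rfl⟩ := exists_chart hst.1 c
  have hi : ∀ b, Nonempty (BasedFunctor.comp (AlgSt.overMap (incl j b)) H ≅ G) := fun b =>
    exists_iso_of_objCls hst.1 (by rw [← pullC_objCls hst.1, hc b])
  let γ : ∀ b, Fam ((cover j).P b) H (GD j G) := fun b => famOfCopy j b (hi b).some.hom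
  let δ : Fam ((cover j).I ⟨⟩) (GD j G) (GD j G) :=
    { app := fun k hk => ((γ true).inv hst.1).app k hk.1 ≫ (γ false).app k hk.2
      lift := fun k hk => by
        have := ((γ true).inv hst.1).lift k hk.1
        have := (γ false).lift k hk.2
        exact vert_comp (Q := k.left) _ _
      nat := fun {k l} n hk hl => by
        rw [← Category.assoc, ((γ true).inv hst.1).nat n hk.1 hl.1, Category.assoc, (γ false).nat n hk.2 hl.2,
          Category.assoc] }
  obtain ⟨g', hg'⟩ := exists_iRestr hst.1 (𝟙 V) (a' := j) (a := (j ≫ incl j true) ≫ proj j) (by simp)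
    (valAt hst.1 δ (j ≫ incl j true) (j_incl_mem j))
  obtain ⟨g, hg⟩ := he G g'
  have hback : IRestr (𝟙 V) (valAt hst.1 δ (j ≫ incl j true) (j_incl_mem j)) g' :=
    IRestr.of_comp hst.1 (by simp) (by rw [Category.id_comp]; exact IRestr.refl _) hg'
  have hδ : IRestr j (valAt hst.1 δ (j ≫ incl j true) (j_incl_mem j)) g := by
    simpa using hback.trans hg
  obtain ⟨ψ, hψ⟩ := exists_famOfPt hst.1 (P := (⊤ : Sieve (Co j))) g
    fun Q q _ => ⟨q ≫ proj j, Category.comp_id _⟩
  let ε : ∀ b, Fam ((cover j).P b) H (GD j G) := fun b =>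
    match b with
    | true => (γ true).comp
        { app := fun k hk => ψ.app k trivial
          lift := fun k hk => ψ.lift k trivial
          nat := fun n hk hl => ψ.nat n trivial trivial }
    | false => γ false
  obtain ⟨θ, -⟩ := glue_hom hst (cover j) ε fun i k hk => by
    show (γ true).app k _ ≫ ψ.app k trivial = (γ false).app k _
    suffices hh : ψ.app k trivial = δ.app k hk by
      rw [hh]
      exact Fam.comp_inv_assoc hst.1 (γ true) k hk.1 _
    obtain ⟨r, hr⟩ := exists_fac j k.hom hk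
    have hkr : r ≫ j ≫ incl j true = k.hom := by
      obtain ⟨l, hl⟩ := hk.1
      rw [← Category.assoc, hr, ← hl]; simp only [Category.assoc, incl_proj_assoc]
    have h1 : IRestr (k.hom ≫ proj j) (valAt hst.1 ψ k.hom trivial) g := hψ k.hom trivial _ (Category.comp_id _)
    have h2 : IRestr (r ≫ j) (valAt hst.1 δ k.hom hk) g :=
      (valAt_restr hst.1 δ r hk (j_incl_mem j) hkr).trans hδ
    rw [hr] at h2
    exact congrArg (fun t => t.g.hom) (IRestr.unique hst.1 h1 h2)
  obtain ⟨i⟩ := isIso_natTrans hst.1 θ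
  rw [pullC_objCls hst.1]
  exact objCls_eq_of_iso i

theorem autExt_of_clsTriv (hst : Stk.IsStack (AlgSp.J S) 𝒳) (hc : ClsTriv j hst.1) : AutExt j 𝒳 := by
  intro G g'
  have := mono_j j
  obtain ⟨α, hα⟩ := exists_famOfPt hst.1 (P := (cover j).P true ⊓ (cover j).P false) g'
    fun Q q hq => exists_fac j q hq
  obtain ⟨H, γ, hγ⟩ := exists_glue₂ (fun _ => GD j G) α hst (cover j).cover
  have := hc (IsoNat.objCls G) (IsoNat.objCls H) fun b => pullC_incl_eq j b (γ b)
  rw [pullC_objCls hst.1] at this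
  obtain ⟨θ⟩ := exists_iso_of_objCls hst.1 this
  let ψ : ∀ b, Fam ((cover j).P b) (GD j G) (GD j G) := fun b =>
    ((γ b).inv hst.1).comp (Fam.ofNat _ θ.hom)
  have key : ∀ b, ∃ v : IsoPt G G (𝟙 W), IRestr (𝟙 W) v (valAt hst.1 (ψ b) (incl j b) (incl_mem j b)) :=
    fun b => exists_iRestr hst.1 (𝟙 W) (by simp) _
  choose v hv using key
  have hσ : ∀ b, (cover j).P b (j ≫ incl j true) := fun b => (cover j).le ⟨⟩ b _ (j_incl_mem j)
  have hre : ∀ b, IRestr j (valAt hst.1 (ψ b) (j ≫ incl j true) (hσ b))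
      (valAt hst.1 (ψ b) (incl j b) (incl_mem j b)) := fun b =>
    valAt_restr hst.1 (ψ b) j _ _ (by cases b; exacts [(j_incl j).symm, rfl])
  have hre' : ∀ b, IRestr j (valAt hst.1 (ψ b) (j ≫ incl j true) (hσ b)) (v b) := fun b =>
    IRestr.of_comp hst.1 (by simp) (by rw [Category.comp_id]; exact hre b) (hv b)
  have hα' := hα (j ≫ incl j true) (j_incl_mem j) (𝟙 V) (by simp)
  refine ⟨(v true).comp (v false).symm, ?_⟩
  have h2 := (hre' true).comp (hre' false).symm
  have heq : (valAt hst.1 (ψ true) (j ≫ incl j true) (hσ true)).comp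
      (valAt hst.1 (ψ false) (j ≫ incl j true) (hσ false)).symm = valAt hst.1 α (j ≫ incl j true) (j_incl_mem j) := by
    suffices hg : ((valAt hst.1 (ψ true) (j ≫ incl j true) (hσ true)).comp
        (valAt hst.1 (ψ false) (j ≫ incl j true) (hσ false)).symm).g =
        (valAt hst.1 α (j ≫ incl j true) (j_incl_mem j)).g from by
      generalize (valAt hst.1 (ψ true) (j ≫ incl j true) (hσ true)).comp _ = p at hg ⊢
      generalize valAt hst.1 α (j ≫ incl j true) (j_incl_mem j) = q at hg ⊢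
      cases p; cases q
      cases hg
      rfl
    apply Iso.ext
    show (valAt hst.1 (ψ true) _ (hσ true)).g.hom ≫ (valAt hst.1 (ψ false) _ (hσ false)).g.inv = _
    rw [Iso.comp_inv_eq, valAt_eq_of_lift, valAt_eq_of_lift, valAt_eq_of_lift]
    show ((γ true).inv hst.1).app _ _ ≫ _ = α.app _ _ ≫ ((γ false).inv hst.1).app _ _ ≫ _
    rw [← Category.assoc (α.app _ _)]
    congr 1
    have := isIso_vert hst.1 _ ((γ false).lift (Over.mk (j ≫ incl j true)) (hσ false))
    show ((γ true).inv hst.1).app _ _ = α.app _ _ ≫ inv ((γ false).app _ _)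
    rw [IsIso.eq_comp_inv, ← hγ _ (hσ true) (hσ false)]
    exact Fam.inv_comp_assoc hst.1 (γ true) _ _ _
  rw [heq] at h2
  have hback : IRestr (𝟙 V) g' (valAt hst.1 α (j ≫ incl j true) (j_incl_mem j)) :=
    IRestr.of_comp hst.1 (by simp) (by rw [Category.id_comp]; exact IRestr.refl _) hα'
  simpa using hback.trans h2

end Groth.L11.IsoNat.Dbl
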