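import Groth.Agent.L11.IsoNat.Pts

/-!
Sections of a space equivalent to a stack.
-/

set_option autoImplicit false
set_option backward.isDefEq.respectTransparency false
set_option backward.isDefEq.respectTransparency.types false

universe u

open CategoryTheory CategoryTheory.Limits AlgebraicGeometry Groth.L24.St

noncomputable section

namespace Groth.L11.IsoNat

variable {S : Scheme.{u}} {F : AlgSp.Sp S} {𝒲 : AlgSt.Cat S} (e : AlgSt.ofSp F ⥤ᵇ 𝒲)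

/-- `l` is a section of the object `X`. -/
def SecOf {T : Over S} (l : (AlgSp.yon S).obj T ⟶ F) (X : 𝒲.obj) : Prop :=
  ∃ i : X ≅ e.obj ⟨T, (AlgSp.J S).uliftYonedaEquiv l⟩, OverId i.hom

theorem secOf_self {T : Over S} (l : (AlgSp.yon S).obj T ⟶ F) :
    SecOf e l (e.obj ⟨T, (AlgSp.J S).uliftYonedaEquiv l⟩) := ⟨Iso.refl _, overId_id _⟩

theorem exists_secOf (he : FibCat.IsEquivOver e) {T : Over S} (X : 𝒲.obj) (hX : 𝒲.p.obj X = T) :
    ∃ l : (AlgSp.yon S).obj T ⟶ F, SecOf e l X := by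
  obtain ⟨⟨T₁, s⟩, i, hi⟩ := eqv_exists_overId he X
  obtain ⟨he1, -⟩ := hi.eq
  have hT : T₁ = T := ((e.w_obj _).symm.trans he1).trans hX
  subst hT
  exact ⟨(AlgSp.J S).uliftYonedaEquiv.symm s, by rw [SecOf, Equiv.apply_symm_apply]; exact ⟨i.symm, hi.inv⟩⟩

theorem SecOf.restr (he : FibCat.IsEquivOver e) {T' T : Over S} {r : T' ⟶ T} {l' : (AlgSp.yon S).obj T' ⟶ F}
    {l : (AlgSp.yon S).obj T ⟶ F} {X' X : 𝒲.obj} (h' : SecOf e l' X') (h : SecOf e l X) (m : X' ⟶ X)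
    [hm : 𝒲.p.IsHomLift r m] : (AlgSp.yon S).map r ≫ l = l' := by
  obtain ⟨_, _⟩ := eqv_fullFaithful he
  obtain ⟨i', hi'⟩ := h'
  obtain ⟨i, hi⟩ := h
  obtain ⟨μ, hμ⟩ := e.toFunctor.map_surjective (i'.inv ≫ m ≫ i.hom)
  have h1 : 𝒲.p.IsHomLift r (e.map μ) := by
    show 𝒲.p.IsHomLift r (e.toFunctor.map μ)
    rw [hμ]
    have a1 : 𝒲.p.IsHomLift (𝟙 T') i'.inv := hi'.inv.lift (e.w_obj _)
    have a2 : 𝒲.p.IsHomLift (𝟙 T) i.hom := hi.lift (IsHomLift.codomain_eq 𝒲.p r m)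
    have : 𝒲.p.IsHomLift r (m ≫ i.hom) := IsHomLift.comp_lift_id_right' 𝒲.p r m T i.hom
    exact IsHomLift.comp_lift_id_left' 𝒲.p T' i'.inv r (m ≫ i.hom)
  have h2 : μ.hom = r := by
    have := (BasedFunctor.isHomLift_iff e r μ).1 h1
    have h := IsHomLift.fac' (AlgSt.ofSp F).p r μ
    simp at h
    exact h
  apply (AlgSp.J S).uliftYonedaEquiv.injective
  have := μ.map_sec
  rw [h2] at this
  rw [← GrothendieckTopology.uliftYonedaEquiv_naturality]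
  exact this

variable {U : Over S} {𝒳 𝒴 : AlgSt.Cat S} {y : FibCat.overCat U ⥤ᵇ 𝒴} {D : 𝒳 ⥤ᵇ 𝒴}

theorem SecOf.fst {ee : AlgSt.ofSp F ⥤ᵇ FibCat.fp y D} {T : Over S} {l : (AlgSp.yon S).obj T ⟶ F}
    {X : (FibCat.fp y D).obj} (h : SecOf ee l X) {b : T ⟶ U}
    (hb : ∀ he : T = X.obj.fst.left, eqToHom he ≫ X.obj.fst.hom = b) :
    l ≫ AlgSt.spMapOfOver (BasedFunctor.comp ee (FibCat.fpFst y D)) = (AlgSp.yon S).map b := by
  obtain ⟨i, hi⟩ := h
  apply (AlgSp.J S).uliftYonedaEquiv.injective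
  rw [GrothendieckTopology.uliftYonedaEquiv_comp]
  let j := i.hom.hom.fst
  have hX : (FibCat.fp y D).p.obj X = T := by
    obtain ⟨he, -⟩ := hi.eq
    exact he.trans (ee.w_obj _)
  have hj : OverId j := overId_of_lift ((L09.Fib.fp_isHomLift_iff _ i.hom).1 (hi.lift hX))
  obtain ⟨he, hm⟩ := hj.eq
  have hw := Over.w j
  rw [show j.left = eqToHom he from hm] at hw
  show ULift.up (eqToHom _ ≫ (ee.obj _).obj.fst.hom) = _
  refine Eq.trans (congrArg ULift.up ?_)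
    (show ULift.up b = ((AlgSp.J S).uliftYonedaEquiv ((AlgSp.yon S).map b)) from ?_)
  · rw [← hb hX.symm, ← hw, eqToHom_trans_assoc]
  · rw [GrothendieckTopology.uliftYonedaEquiv_uliftYoneda_map]

end Groth.L11.IsoNat
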