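import Groth.Agent.L11.IsoNat.Dbl.Relative
import Groth.Agent.L11.IsoNat.Dbl.Secs
import Groth.Agent.L11.IsoNat.Dbl.Inertia

/-!
Properness of the diagonal and extension of isomorphisms from generic points of discrete valuation rings.
-/

set_option autoImplicit false
set_option backward.isDefEq.respectTransparency false
set_option backward.isDefEq.respectTransparency.types false

universe u

open CategoryTheory CategoryTheory.Limits AlgebraicGeometry Groth.L24.St Opposite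

noncomputable section

namespace Groth.L11.IsoNat.Dbl

variable {S : Scheme.{u}} {𝒳 𝒴 : AlgSt.Cat S}

theorem exists_vert_factor (h : FibCat.IsFibGrpd 𝒳.p) {V W : Over S} {j : V ⟶ W} {c : 𝒳.obj} {z' z : 𝒳.obj}
    (π : z' ⟶ z) [𝒳.p.IsHomLift j π] (m : c ⟶ z) [𝒳.p.IsHomLift j m] :
    ∃ a : c ≅ z', OverId a.hom ∧ a.hom ≫ π = m := by
  have := L09.Fib.stronglyCartesian_of_isFibGrpd _ h j π
  let k := Functor.IsCartesian.map 𝒳.p j π m
  have hk : 𝒳.p.IsHomLift (𝟙 V) k := Functor.IsCartesian.map_isHomLift _ _ _ _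
  have := L09.Fib.isIso_of_isFibGrpd _ h (𝟙 V) k
  exact ⟨asIso k, overId_of_lift hk, Functor.IsCartesian.fac 𝒳.p j π m⟩

theorem lift_right_vert {V W : Over S} {j : V ⟶ W} {a b c : 𝒳.obj} (m : a ⟶ b) [hm : 𝒳.p.IsHomLift j m]
    (v : b ⟶ c) (hv : OverId v) : 𝒳.p.IsHomLift j (m ≫ v) := by
  have : 𝒳.p.IsHomLift (𝟙 W) v := hv.lift (IsHomLift.codomain_eq 𝒳.p j m)
  exact IsHomLift.comp_lift_id_right' 𝒳.p j m W v

theorem lift_left_vert {𝒲 : AlgSt.Cat S} {V W : Over S} {j : V ⟶ W} {a b c : 𝒲.obj} (v : a ⟶ b) (hv : OverId v)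
    (m : b ⟶ c) (hm : 𝒲.p.IsHomLift j m) : 𝒲.p.IsHomLift j (v ≫ m) := by
  obtain ⟨e, -⟩ := hv.eq
  have : 𝒲.p.IsHomLift (𝟙 V) v := hv.lift (e.trans (IsHomLift.domain_eq 𝒲.p j m))
  exact IsHomLift.comp_lift_id_left' 𝒲.p V v j m

section

variable {f : 𝒳 ⥤ᵇ 𝒴}

theorem fp_fst_lift' {V W : Over S} {j : V ⟶ W} {X X' : (FibCat.fp f f).obj} (m : X ⟶ X')
    (hm : (FibCat.fp f f).p.IsHomLift j m) : 𝒳.p.IsHomLift j m.hom.fst :=
  (L09.Fib.fp_isHomLift_iff j m).1 hm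

theorem overId_fst {X X' : (FibCat.fp f f).obj} {m : X ⟶ X'} (hm : OverId m) : OverId m.hom.fst :=
  hm.map (FibCat.fpFst f f)

theorem overId_snd {X X' : (FibCat.fp f f).obj} {m : X ⟶ X'} (hm : OverId m) : OverId m.hom.snd :=
  hm.map (FibCat.fpSnd f f)

end

section Lift

variable (f : 𝒳 ⥤ᵇ 𝒴)

theorem isoExt_of_separated (h𝒳 : FibCat.IsFibGrpd 𝒳.p) (h𝒴 : FibCat.IsFibGrpd 𝒴.p)
    (hpr : AlgSt.RepByAlgSpWith AlgSp.IsProperMor (FibCat.diag f))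
    (A K : Type u) [CommRing A] [IsDomain A] [IsDiscreteValuationRing A] [Field K] [Algebra A K] [IsFractionRing A K]
    (str : Spec (.of A) ⟶ S) : IsoExt (gen A K str) f := by
  intro G₁ G₂ α θ hαθ
  let W : Over S := Over.mk str
  let j := gen A K str
  obtain ⟨hj, hw⟩ := hαθ
  let ov : Over.mk j ⟶ idObj W := ovm j (Category.comp_id j)
  have hfp : FibCat.IsFibGrpd (FibCat.fp f f).p := L09.Fib.fp_isFibGrpd h𝒳 h𝒳 h𝒴
  let Y : (FibCat.fp f f).obj := fpObj (G₁.obj (idObj W)) (G₂.obj (idObj W)) θ.g θ.hg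
  obtain ⟨y, ε, hε⟩ := exists_overCat_functor (U := W) hfp Y (G₁.w_obj (idObj W))
  obtain ⟨F, e, he, hP⟩ := hpr W y
  let M : y.obj (Over.mk j) ⟶ Y := y.map ov ≫ ε.hom
  have hM : (FibCat.fp f f).p.IsHomLift j M := by
    have : (FibCat.fp f f).p.IsHomLift j (y.map ov) := lift_map y ov
    exact lift_right_vert _ _ hε
  have h1 : 𝒳.p.IsHomLift j M.hom.fst := fp_fst_lift' M hM
  have h2 : 𝒳.p.IsHomLift j M.hom.snd := L09.Fib.fp_snd_lift j M hM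
  have hg1 : 𝒳.p.IsHomLift j (G₁.map ov) := lift_map G₁ ov
  have hg2 : 𝒳.p.IsHomLift j (G₂.map ov) := lift_map G₂ ov
  obtain ⟨a₁, ha₁, hb₁⟩ := exists_vert_factor h𝒳 (j := j) (G₁.map ov) M.hom.fst
  obtain ⟨a₂, ha₂, hb₂⟩ := exists_vert_factor h𝒳 (j := j) (G₂.map ov) M.hom.snd
  have hwM : f.map M.hom.fst ≫ θ.g.hom = (y.obj (Over.mk j)).obj.iso.hom ≫ f.map M.hom.snd := M.hom.w
  have hwπ : f.map a₁.hom ≫ 𝟙 _ = (y.obj (Over.mk j)).obj.iso.hom ≫ f.map (a₂.hom ≫ α.g.inv) := by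
    have hl : 𝒴.p.IsHomLift j (f.map (G₁.map ov)) := (BasedFunctor.isHomLift_iff f j _).2 hg1
    have := L09.Fib.stronglyCartesian_of_isFibGrpd _ h𝒴 j (f.map (G₁.map ov))
    have hy : 𝒴.p.obj (f.obj (y.obj (Over.mk j)).obj.fst) = Over.mk (Spec.map (CommRingCat.ofHom (algebraMap A K)) ≫ str) :=
      (f.w_obj _).trans (y.w_obj _)
    have : 𝒴.p.IsHomLift (𝟙 _) (f.map a₁.hom ≫ 𝟙 _) := ((ha₁.map f).comp (overId_id _)).lift hy
    have : 𝒴.p.IsHomLift (𝟙 _) ((y.obj (Over.mk j)).obj.iso.hom ≫ f.map (a₂.hom ≫ α.g.inv)) :=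
      ((fp_overId _).comp ((ha₂.comp (OverId.inv α.hg)).map f)).lift hy
    refine Functor.IsStronglyCartesian.ext 𝒴.p j (f.map (G₁.map ov)) (𝟙 _) ?_
    have e1 : f.map α.g.inv ≫ f.map (G₁.map ov) = f.map (G₂.map ov) ≫ θ.g.inv := by
      rw [Iso.eq_comp_inv, Category.assoc, ← cancel_epi (f.map α.g.hom)]
      rw [← Category.assoc, ← Functor.map_comp, α.g.hom_inv_id, CategoryTheory.Functor.map_id]
      exact (Category.id_comp _).trans hw.symm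
    calc (f.map a₁.hom ≫ 𝟙 _) ≫ f.map (G₁.map ov) = f.map M.hom.fst :=
          (congrArg (· ≫ _) (Category.comp_id _)).trans
            ((f.toFunctor.map_comp _ _).symm.trans (congrArg f.map hb₁))
      _ = (y.obj (Over.mk j)).obj.iso.hom ≫ f.map M.hom.snd ≫ θ.g.inv := by
          rw [← Category.assoc, ← hwM, Category.assoc, Iso.hom_inv_id, Category.comp_id]
      _ = _ := by
          rw [← hb₂, f.toFunctor.map_comp, Category.assoc, f.toFunctor.map_comp]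
          exact congrArg (fun t => _ ≫ f.map a₂.hom ≫ t) e1.symm |>.trans (by simp)
  let π : y.obj (Over.mk j) ≅ (FibCat.diag f).obj (G₁.obj (Over.mk j)) :=
    fpIsoMk a₁ (a₂ ≪≫ α.g.symm) hwπ
  let XK : (FibCat.fp y (FibCat.diag f)).obj :=
    fpObj (Over.mk j) (G₁.obj (Over.mk j)) π (overId_fp _ ha₁)
  obtain ⟨lK, hlK⟩ := exists_secOf e he XK (T := Over.mk (Spec.map (CommRingCat.ofHom (algebraMap A K)) ≫ str)) rfl
  let sq : AlgSp.ValSq (AlgSt.spMapOfOver (BasedFunctor.comp e (FibCat.fpFst y (FibCat.diag f)))) :=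
    { A := A
      K := K
      str := str
      top := lK
      bot := (AlgSp.yon S).map (𝟙 W)
      comm := by
        rw [hlK.fst (b := j) (fun he => by simp [XK]; rfl), CategoryTheory.Functor.map_id, Category.comp_id] }
  obtain ⟨e', he'⟩ := Groth.L23.existVC_of_univClosed F.property (AlgSp.IsAlgSpace.yon_obj W) (qs_of_sep hP.1)
    hP.2.2 sq
  obtain ⟨l, hl₁, hl₂⟩ :=
    Groth.L23.hasLift_of_separated F.property (AlgSp.IsAlgSpace.yon_obj W) hP.1 sq e' he'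
  let o : (AlgSt.ofSp F.obj).obj := ⟨W, (AlgSp.J S).uliftYonedaEquiv l⟩
  let X := e.obj o
  have hXW : W = X.obj.fst.left := (e.w_obj o).symm
  have hb : eqToHom hXW ≫ X.obj.fst.hom = 𝟙 W :=
    (AlgSp.yon S).map_injective (((secOf_self e l).fst (fun _ => rfl)).symm.trans hl₂)
  let c : idObj W ≅ X.obj.fst := Over.isoMk (eqToIso hXW) hb
  let P : Y ≅ (FibCat.diag f).obj X.obj.snd := ε.symm ≪≫ y.toFunctor.mapIso c ≪≫ X.obj.iso
  have hPo : OverId P.hom :=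
    (OverId.inv hε).comp (((OverId.of_eq (𝒳 := FibCat.overCat W) hXW rfl : OverId c.hom).map y).comp (fp_overId X))
  let b₁ : G₁.obj (idObj W) ≅ X.obj.snd := (FibCat.fpFst f f).toFunctor.mapIso P
  let b₂ : G₂.obj (idObj W) ≅ X.obj.snd := (FibCat.fpSnd f f).toFunctor.mapIso P
  refine ⟨⟨b₁ ≪≫ b₂.symm, (overId_fst hPo).comp (OverId.inv (i := b₂) (overId_snd hPo))⟩, hj, ?_⟩
  obtain ⟨iK, hiK⟩ := hlK
  let m₀ : (⟨Over.mk (Spec.map (CommRingCat.ofHom (algebraMap A K)) ≫ str), (AlgSp.J S).uliftYonedaEquiv lK⟩ :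
      (AlgSt.ofSp F.obj).obj) ⟶ o :=
    ⟨j, ((AlgSp.J S).uliftYonedaEquiv_naturality l j).trans (congrArg (AlgSp.J S).uliftYonedaEquiv hl₁)⟩
  have hm₀ : (FibCat.fp y (FibCat.diag f)).p.IsHomLift j (e.map m₀) :=
    (BasedFunctor.isHomLift_iff e j m₀).2 (IsHomLift.map (AlgSt.ofSp F.obj).p m₀)
  let m : XK ⟶ X := iK.hom ≫ e.map m₀
  have hm : (FibCat.fp y (FibCat.diag f)).p.IsHomLift j m := lift_left_vert _ hiK _ hm₀
  have hn : m.hom.fst = ov ≫ c.hom := by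
    have : (FibCat.overCat W).p.IsHomLift j m.hom.fst := (L09.Fib.fp_isHomLift_iff _ m).1 hm
    have h := IsHomLift.fac' (FibCat.overCat W).p j m.hom.fst
    apply Over.OverMorphism.ext
    simp at h
    exact h
  have hwm : y.map m.hom.fst ≫ X.obj.iso.hom = π.hom ≫ (FibCat.diag f).map m.hom.snd := m.hom.w
  have hMP : M ≫ P.hom = π.hom ≫ (FibCat.diag f).map m.hom.snd := by
    rw [← hwm, hn]
    show (y.map ov ≫ ε.hom) ≫ ε.inv ≫ y.map c.hom ≫ X.obj.iso.hom = _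
    rw [Category.assoc, Iso.hom_inv_id_assoc, ← Functor.map_comp_assoc]
  have k₁ : M.hom.fst ≫ b₁.hom = a₁.hom ≫ m.hom.snd := congrArg (fun t => t.hom.fst) hMP
  have k₂ : M.hom.snd ≫ b₂.hom = (a₂.hom ≫ α.g.inv) ≫ m.hom.snd := congrArg (fun t => t.hom.snd) hMP
  rw [← hb₁, Category.assoc, cancel_epi] at k₁
  rw [← hb₂, Category.assoc, Category.assoc, cancel_epi, Iso.eq_inv_comp] at k₂
  show α.g.hom ≫ G₂.map ov = G₁.map ov ≫ b₁.hom ≫ b₂.inv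
  rw [reassoc_of% k₁, ← k₂]
  simp

theorem isoPt_ext_of_dense (h𝒳 : FibCat.IsFibGrpd 𝒳.p)
    (hd : AlgSt.RepByAlgSpWith (AlgSp.IsSeparatedMor ⊓ AlgSp.IsQuasiCompactMor) (FibCat.diag (FibCat.toSelf 𝒳)))
    {V W : Over S} {j : V ⟶ W} (hj : ClosedDense j) {G₁ G₂ : FibCat.overCat W ⥤ᵇ 𝒳} {p : IsoPt G₁ G₂ j}
    {β β' : IsoPt G₁ G₂ (𝟙 W)} (hb : IRestr j p β) (hb' : IRestr j p β') : β = β' := by
  have hc := hb.comp hb'.symm
  obtain ⟨hq, hw⟩ := hc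
  let z : 𝒳.p.Fiber W := ⟨G₁.obj (idObj W), G₁.w_obj _⟩
  let z' : 𝒳.p.Fiber V := ⟨G₁.obj (Over.mk j), G₁.w_obj _⟩
  have : 𝒳.p.IsHomLift j (G₁.map (ovm j hq) : z'.1 ⟶ z.1) := lift_map G₁ (ovm j hq)
  have key := aut_ext_of_dense hd h𝒳 hj (z := z) (z' := z') (G₁.map (ovm j hq))
    ⟨(β.comp β'.symm).g.hom, (β.comp β'.symm).hg.lift (G₁.w_obj _)⟩ (𝟙 z) (by
      refine hw.symm.trans ?_
      show (p.g.hom ≫ p.g.inv) ≫ _ = G₁.map (ovm j hq) ≫ 𝟙 _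
      rw [Iso.hom_inv_id, Category.id_comp]
      exact (Category.comp_id _).symm)
  have h' : β.g.hom ≫ β'.g.inv = 𝟙 _ := congrArg (fun t => t.1) key
  refine IsoPt.ext' ?_
  exact (Iso.comp_inv_eq _).1 h' |>.trans (Category.id_comp _)

theorem exists_lift_of_isoExt (h𝒳 : FibCat.IsFibGrpd 𝒳.p) (h𝒴 : FibCat.IsFibGrpd 𝒴.p)
    (hd : AlgSt.RepByAlgSpWith (AlgSp.IsSeparatedMor ⊓ AlgSp.IsQuasiCompactMor) (FibCat.diag (FibCat.toSelf 𝒴)))
    {U : Over S} {y : FibCat.overCat U ⥤ᵇ FibCat.fp f f} {F : AlgSp.Space S}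
    {e : AlgSt.ofSp F.obj ⥤ᵇ FibCat.fp y (FibCat.diag f)} (he : FibCat.IsEquivOver e)
    {A K : Type u} [CommRing A] [IsDomain A] [IsDiscreteValuationRing A] [Field K] [Algebra A K] [IsFractionRing A K]
    (str : Spec (.of A) ⟶ S) (b : Over.mk str ⟶ U)
    (lK : (AlgSp.yon S).obj (Over.mk (Spec.map (CommRingCat.ofHom (algebraMap A K)) ≫ str)) ⟶ F.obj)
    (hlK : lK ≫ AlgSt.spMapOfOver (BasedFunctor.comp e (FibCat.fpFst y (FibCat.diag f))) =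
      (AlgSp.yon S).map (gen A K str) ≫ (AlgSp.yon S).map b)
    (hext : IsoExt (gen A K str) f) :
    ∃ l : (AlgSp.yon S).obj (Over.mk str) ⟶ F.obj, (AlgSp.yon S).map (gen A K str) ≫ l = lK ∧
      l ≫ AlgSt.spMapOfOver (BasedFunctor.comp e (FibCat.fpFst y (FibCat.diag f))) = (AlgSp.yon S).map b := by
  let W : Over S := Over.mk str
  let j := gen A K str
  let oK : (AlgSt.ofSp F.obj).obj :=
    ⟨Over.mk (Spec.map (CommRingCat.ofHom (algebraMap A K)) ≫ str), (AlgSp.J S).uliftYonedaEquiv lK⟩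
  let XK := e.obj oK
  have hXK : oK.base = XK.obj.fst.left := (e.w_obj oK).symm
  have hbK : eqToHom hXK ≫ XK.obj.fst.hom = j ≫ b :=
    (AlgSp.yon S).map_injective (((secOf_self e lK).fst (fun _ => rfl)).symm.trans
      (hlK.trans ((AlgSp.yon S).map_comp _ _).symm))
  let cK : Over.mk (j ≫ b) ≅ XK.obj.fst := Over.isoMk (eqToIso hXK) hbK
  let Y := y.obj (Over.mk b)
  obtain ⟨G₁, φ₁, hφ₁⟩ := exists_overCat_functor (U := W) h𝒳 Y.obj.fst (y.w_obj (Over.mk b))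
  have hY2 : 𝒳.p.obj Y.obj.snd = W := by
    obtain ⟨h0, -⟩ := (fp_overId Y).eq
    exact (f.w_obj _).symm.trans (h0.symm.trans ((f.w_obj _).trans (y.w_obj _)))
  obtain ⟨G₂, φ₂, hφ₂⟩ := exists_overCat_functor (U := W) h𝒳 Y.obj.snd hY2
  let θ : IsoPt (BasedFunctor.comp G₁ f) (BasedFunctor.comp G₂ f) (𝟙 W) :=
    ⟨f.toFunctor.mapIso φ₁ ≪≫ Y.obj.iso ≪≫ (f.toFunctor.mapIso φ₂).symm,
      (hφ₁.map f).comp ((fp_overId Y).comp (OverId.inv (i := f.toFunctor.mapIso φ₂) (hφ₂.map f)))⟩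
  let M : y.obj (Over.mk (j ≫ b)) ⟶ Y := y.map (ovm j rfl)
  have hM : (FibCat.fp f f).p.IsHomLift j M := lift_map y (ovm j rfl)
  have h1 : 𝒳.p.IsHomLift j M.hom.fst := fp_fst_lift' M hM
  have h2 : 𝒳.p.IsHomLift j M.hom.snd := L09.Fib.fp_snd_lift j M hM
  have hm1 : 𝒳.p.IsHomLift j (M.hom.fst ≫ φ₁.inv) := lift_right_vert _ _ (OverId.inv hφ₁)
  have hm2 : 𝒳.p.IsHomLift j (M.hom.snd ≫ φ₂.inv) := lift_right_vert _ _ (OverId.inv hφ₂)
  let ov : Over.mk j ⟶ idObj W := ovm j (Category.comp_id j)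
  have hg1 : 𝒳.p.IsHomLift j (G₁.map ov) := lift_map G₁ ov
  have hg2 : 𝒳.p.IsHomLift j (G₂.map ov) := lift_map G₂ ov
  obtain ⟨a₁, ha₁, hb₁⟩ := exists_vert_factor h𝒳 (j := j) (G₁.map ov) (M.hom.fst ≫ φ₁.inv)
  obtain ⟨a₂, ha₂, hb₂⟩ := exists_vert_factor h𝒳 (j := j) (G₂.map ov) (M.hom.snd ≫ φ₂.inv)
  let π : y.obj (Over.mk (j ≫ b)) ≅ (FibCat.diag f).obj XK.obj.snd := y.toFunctor.mapIso cK ≪≫ XK.obj.iso
  have hπ : OverId π.hom :=
    ((OverId.of_eq (𝒳 := FibCat.overCat U) (a := Over.mk (j ≫ b)) (b := XK.obj.fst) (φ := cK.hom) hXK rfl).map y).comp (fp_overId XK)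
  let p₁ : (y.obj (Over.mk (j ≫ b))).obj.fst ≅ XK.obj.snd := (FibCat.fpFst f f).toFunctor.mapIso π
  let p₂ : (y.obj (Over.mk (j ≫ b))).obj.snd ≅ XK.obj.snd := (FibCat.fpSnd f f).toFunctor.mapIso π
  have hp₁ : OverId p₁.hom := overId_fst hπ
  have hp₂ : OverId p₂.hom := overId_snd hπ
  let α : IsoPt G₁ G₂ j := ⟨a₁.symm ≪≫ p₁ ≪≫ p₂.symm ≪≫ a₂,
    (OverId.inv ha₁).comp (hp₁.comp ((OverId.inv hp₂).comp ha₂))⟩
  have hwπ : f.map p₁.hom = (y.obj (Over.mk (j ≫ b))).obj.iso.hom ≫ f.map p₂.hom :=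
    ((Category.comp_id _).symm.trans π.hom.hom.w :)
  have hwM : f.map M.hom.fst ≫ Y.obj.iso.hom = (y.obj (Over.mk (j ≫ b))).obj.iso.hom ≫ f.map M.hom.snd := M.hom.w
  have hαθ : IRestr j (α.map f) θ := by
    refine ⟨Category.comp_id j, ?_⟩
    show f.map α.g.hom ≫ f.map (G₂.map ov) = f.map (G₁.map ov) ≫ f.map φ₁.hom ≫ Y.obj.iso.hom ≫ f.map φ₂.inv
    rw [← cancel_epi (f.map a₁.hom)]
    simp only [α, Iso.trans_hom, Iso.symm_hom, ← Category.assoc, ← Functor.map_comp, Iso.hom_inv_id_assoc,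
      Iso.hom_inv_id, Category.id_comp]
    simp only [Category.assoc, hb₁, hb₂, Iso.inv_hom_id, Category.comp_id]
    rw [Functor.map_comp, hwπ, Category.assoc, ← Functor.map_comp, ← Category.assoc p₂.hom,
      Iso.hom_inv_id, Category.id_comp, Functor.map_comp, ← Category.assoc, ← hwM, Category.assoc]
  obtain ⟨β, hβ⟩ := hext G₁ G₂ α θ hαθ
  have hfβ : β.map f = θ :=
    isoPt_ext_of_dense h𝒴 hd (closedDense_of_generic (A := A) (K := K) (𝟙 _) (𝟙 _) j (by simp [j]))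
      (hβ.map f) hαθ
  have hfβ' : f.map β.g.hom = f.map φ₁.hom ≫ Y.obj.iso.hom ≫ f.map φ₂.inv := congrArg (fun t => t.g.hom) hfβ
  let π' : Y ≅ (FibCat.diag f).obj (G₂.obj (idObj W)) := fpIsoMk (φ₁.symm ≪≫ β.g) φ₂.symm (by
    show f.map (φ₁.inv ≫ β.g.hom) ≫ 𝟙 _ = Y.obj.iso.hom ≫ f.map φ₂.inv
    refine (Category.comp_id _).trans ((f.toFunctor.map_comp _ _).trans ?_)
    rw [hfβ', ← Category.assoc, ← Functor.map_comp, Iso.inv_hom_id, CategoryTheory.Functor.map_id, Category.id_comp])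
  have hπ' : OverId π'.hom := overId_fp _ ((OverId.inv hφ₁).comp β.hg)
  let X : (FibCat.fp y (FibCat.diag f)).obj := fpObj (Over.mk b) (G₂.obj (idObj W)) π' hπ'
  obtain ⟨l, hl⟩ := exists_secOf e he X (T := W) rfl
  refine ⟨l, ?_, hl.fst (fun _ => by simp [X]; rfl)⟩
  let μ : XK.obj.snd ⟶ G₂.obj (idObj W) := p₂.inv ≫ a₂.hom ≫ G₂.map ov
  obtain ⟨hq, hw⟩ := hβ
  have hMπ : M ≫ π'.hom = π.hom ≫ (FibCat.diag f).map μ := by
    apply fp_ext
    · show M.hom.fst ≫ φ₁.inv ≫ β.g.hom = p₁.hom ≫ μ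
      rw [← Category.assoc, ← hb₁, Category.assoc, ← hw]
      simp [α, μ]
      rfl
    · show M.hom.snd ≫ φ₂.inv = p₂.hom ≫ μ
      rw [← hb₂]
      simp [μ]
  let n : XK.obj.fst ⟶ Over.mk b := cK.inv ≫ ovm j rfl
  let m : XK ⟶ X := fpHom n μ (by
    show y.map (cK.inv ≫ ovm j rfl) ≫ π'.hom = XK.obj.iso.hom ≫ (FibCat.diag f).map μ
    rw [Functor.map_comp, Category.assoc]
    refine (congrArg (y.map cK.inv ≫ ·) hMπ).trans ?_
    show y.map cK.inv ≫ (y.map cK.hom ≫ XK.obj.iso.hom) ≫ _ = _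
    rw [Category.assoc, ← Functor.map_comp_assoc, Iso.inv_hom_id, CategoryTheory.Functor.map_id, Category.id_comp])
  have hm : (FibCat.fp y (FibCat.diag f)).p.IsHomLift j m := by
    refine (L09.Fib.fp_isHomLift_iff _ m).2 ?_
    show (FibCat.overCat U).p.IsHomLift j (cK.inv ≫ ovm j rfl)
    have hc0 : OverId (𝒳 := FibCat.overCat U) cK.hom :=
      OverId.of_eq (𝒳 := FibCat.overCat U) (a := Over.mk (j ≫ b)) (b := XK.obj.fst) hXK rfl
    exact lift_left_vert (𝒲 := FibCat.overCat U) cK.inv (OverId.inv hc0) (ovm j rfl : Over.mk (j ≫ b) ⟶ Over.mk b)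
      (IsHomLift.map (FibCat.overCat U).p (ovm j rfl : Over.mk (j ≫ b) ⟶ Over.mk b))
  exact SecOf.restr e he (secOf_self e lK) hl m

end Lift

end Groth.L11.IsoNat.Dbl
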