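import Groth.Agent.L11.IsoNat.Dbl.Inertia
import Groth.Agent.L09.Gerbe.InertiaAbs

/-!
Properness of the inertia is detected by isomorphism classes.
-/

set_option autoImplicit false
set_option backward.isDefEq.respectTransparency false
set_option backward.isDefEq.respectTransparency.types false

universe u

open CategoryTheory CategoryTheory.Limits AlgebraicGeometry Groth.L24.St

noncomputable section

namespace Groth.L11.IsoNat.Dbl

variable {S : Scheme.{u}} {𝒳 𝒴 : AlgSt.Cat S}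

theorem autExt_of_properInertia (hpr : AlgSt.RepByAlgSpWith AlgSp.IsProperMor (FibCat.inertiaToBase (FibCat.toSelf 𝒳)))
    (A K : Type u) [CommRing A] [IsDomain A] [IsDiscreteValuationRing A] [Field K] [Algebra A K] [IsFractionRing A K]
    (str : Spec (.of A) ⟶ S) : AutExt (gen A K str) 𝒳 := by
  intro G g'
  obtain ⟨F, e, he, hP⟩ := hpr _ G
  obtain ⟨g, hg⟩ := exists_lift_of_proper he hP (𝟙 _) (Category.comp_id (gen A K str)) ⟨g'.g, g'.hg⟩
  exact ⟨⟨g.g, g.hg⟩, hg⟩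

theorem properInertia_of_fIso (h𝒳 : AlgSt.IsAlgStack Scheme.fppfPrecoverage 𝒳)
    (h𝒴 : AlgSt.IsAlgStack Scheme.fppfPrecoverage 𝒴)
    (h𝒴d : AlgSt.RepByAlgSpWith (AlgSp.IsSeparatedMor ⊓ AlgSp.IsQuasiCompactMor)
      (FibCat.diag (FibCat.toSelf 𝒴)))
    (h𝒴i : AlgSt.RepByAlgSpWith (AlgSp.LocP @LocallyOfFinitePresentation)
      (FibCat.inertiaToBase (FibCat.toSelf 𝒴)))
    (hN : AlgSt.SmoothLocally (fun X => IsLocallyNoetherian X) 𝒴)
    (φ : IsoNat.FIso 𝒳 𝒴)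
    (hpr : AlgSt.RepByAlgSpWith AlgSp.IsProperMor (FibCat.inertiaToBase (FibCat.toSelf 𝒳))) :
    AlgSt.RepByAlgSpWith AlgSp.IsProperMor (FibCat.inertiaToBase (FibCat.toSelf 𝒴)) := by
  have hI : FibCat.IsFibGrpd (FibCat.inertia (FibCat.toSelf 𝒴)).p :=
    (Groth.L09.Gerbe.isAlgStack_inertia h𝒴 isAlgStack_selfOver (FibCat.toSelf 𝒴)).isStack.1
  obtain ⟨V, v, hv, hvs⟩ := h𝒴.atlas
  have : IsLocallyNoetherian V.left := hN V v hv
  have hflat : AlgSt.RepByAlgSpWith (AlgSp.LocP @Flat) v :=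
    repWith_mono (fun _ _ _ _ h => Groth.L23.locP_mono (fun {A B} (φ : A ⟶ B) (hf : Smooth φ) => (inferInstance : Flat φ)) h) hv
  have hlfp : AlgSt.RepByAlgSpWith (AlgSp.LocP @LocallyOfFinitePresentation) v :=
    repWith_mono (fun _ _ _ _ h => Groth.L23.locP_mono (fun {A B} (φ : A ⟶ B) (hf : Smooth φ) => (inferInstance : LocallyOfFinitePresentation φ)) h) hv
  refine (repWith_iff_fpFst_cover pBase_proper Groth.L24.Alg.isLocalOnBase_fppf_proper hI h𝒴.isStack.1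
    (isAlgStack_overCat V).isStack.1 (repWith_rep1 h𝒴i) hflat hlfp hvs).2 ?_
  obtain ⟨F, e, he, ⟨hs, hqc⟩, hf⟩ :=
    repWith_inf (pBase_locP Groth.L23.etLocal_lfp) (inertiaToBase_repWith h𝒴 isAlgStack_selfOver h𝒴d) h𝒴i V v
  have hft : AlgSp.IsFiniteTypeMor
      (AlgSt.spMapOfOver (BasedFunctor.comp e (FibCat.fpFst v (FibCat.inertiaToBase (FibCat.toSelf 𝒴))))) :=
    ⟨Groth.L23.locP_mono (fun {A B} (φ : A ⟶ B) (h : LocallyOfFinitePresentation φ) => (inferInstance : LocallyOfFiniteType φ)) hf, hqc⟩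
  have hP := proper_of_ext h𝒴.isStack.1 he hs hft fun A K _ _ _ _ _ _ str =>
    autExt_of_clsTriv (gen A K str) h𝒴.isStack (clsTriv_fIso (gen A K str) φ h𝒳.isStack.1 h𝒴.isStack.1
      (clsTriv_of_autExt (gen A K str) h𝒳.isStack (autExt_of_properInertia hpr A K str)))
  refine (repWith_precomp he _).1 ((repWith_congr (overFactor _)).2 ((repWith_postcomp (toOverCat_isEquivOver V) _).2 ?_))
  exact repWith_ofSpMap_of_prop pBase_proper F.property (AlgSp.IsAlgSpace.yon_obj V) _ hP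

end Groth.L11.IsoNat.Dbl
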