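import Groth.Agent.L11.IsoNat.Dbl.Diag
import Groth.Agent.L24.LocQ.Noetherian
import Groth.Agent.L24.LocQ.BaseChange

/-!
Separatedness is detected by the map of isomorphism classes.
-/

set_option autoImplicit false
set_option backward.isDefEq.respectTransparency false
set_option backward.isDefEq.respectTransparency.types false

universe u

open CategoryTheory CategoryTheory.Limits AlgebraicGeometry Groth.L24.St Groth.L24.LocQ

noncomputable section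

namespace Groth.L11.IsoNat.Dbl

variable {S : Scheme.{u}} {𝒳 𝒴 : AlgSt.Cat S} {f : 𝒳 ⥤ᵇ 𝒴}

theorem smoothLocally_noetherian_of_locQ_lft (h𝒳 : AlgSt.IsAlgStack Scheme.fppfPrecoverage 𝒳)
    (hf : AlgSt.LocQ (AlgSp.LocP @LocallyOfFiniteType) f)
    (hN : AlgSt.SmoothLocally (fun X => IsLocallyNoetherian X) 𝒴) :
    AlgSt.SmoothLocally (fun X => IsLocallyNoetherian X) 𝒳 := by
  obtain ⟨U, V, x, y, h, -, hx, hxs, hy, hh⟩ := hf
  have : IsLocallyNoetherian V.left := hN V y hy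
  have : LocallyOfFiniteType h.left := prop_of_locP_map hh
  exact smoothLocally_of_chart h𝒳.isStack.1 smoothLocalProp_isLocallyNoetherian hx
    (surjective_ofChart_of_repWith h𝒳.isStack.1 hxs) (LocallyOfFiniteType.isLocallyNoetherian h.left)

theorem diag_sep_qc (h𝒳d : AlgSt.RepByAlgSpWith (AlgSp.IsSeparatedMor ⊓ AlgSp.IsQuasiCompactMor)
      (FibCat.diag (FibCat.toSelf 𝒳)))
    (h𝒴d : AlgSt.RepByAlgSpWith (AlgSp.IsSeparatedMor ⊓ AlgSp.IsQuasiCompactMor)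
      (FibCat.diag (FibCat.toSelf 𝒴))) (f : 𝒳 ⥤ᵇ 𝒴) :
    AlgSt.RepByAlgSpWith (AlgSp.IsSeparatedMor ⊓ AlgSp.IsQuasiCompactMor) (FibCat.diag f) := by
  refine diag_of_comp_repWith_of (Q := AlgSp.IsSeparatedMor) ?_ ?_
    (repWith_mono (fun _ _ _ _ h => h.1) h𝒴d) ((diag_toSelf_comp_iff f).1 h𝒳d)
  · intro _ _ _ _ h₁ h₂ h₃ h₄ _ _ _ _ sq h
    exact ⟨pBase_sepMor h₁ h₂ h₃ h₄ _ _ _ _ sq h.1, pBase_qcMor h₁ h₂ h₃ h₄ _ _ _ _ sq h.2⟩
  · intro _ _ _ hX hY hZ a b hb hab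
    exact ⟨Groth.L23.repWith_diagonal_of_comp hab.1, Groth.L23.qcMor_of_comp hX hY hZ hab.2 (qs_of_sep hb)⟩

theorem valSq_of_isoExt (h𝒳 : FibCat.IsFibGrpd 𝒳.p) (h𝒴 : FibCat.IsFibGrpd 𝒴.p)
    (hd : AlgSt.RepByAlgSpWith (AlgSp.IsSeparatedMor ⊓ AlgSp.IsQuasiCompactMor) (FibCat.diag (FibCat.toSelf 𝒴)))
    {U : Over S} {y : FibCat.overCat U ⥤ᵇ FibCat.fp f f} {F : AlgSp.Space S}
    {e : AlgSt.ofSp F.obj ⥤ᵇ FibCat.fp y (FibCat.diag f)} (he : FibCat.IsEquivOver e)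
    {d : F.obj ⟶ (AlgSp.yon S).obj U}
    (hde : d = AlgSt.spMapOfOver (BasedFunctor.comp e (FibCat.fpFst y (FibCat.diag f))))
    (hsep : AlgSp.IsSeparatedMor d) (sq : AlgSp.ValSq d) [IsDiscreteValuationRing sq.A]
    (hext : IsoExt (gen sq.A sq.K sq.str) f) : sq.HasLift ∧ sq.HasUniq := by
  have hd' : ClosedDense (gen sq.A sq.K sq.str) :=
    closedDense_of_generic (A := sq.A) (K := sq.K) (𝟙 _) (𝟙 _) (gen sq.A sq.K sq.str) (by simp)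
  obtain ⟨b, hb⟩ := (AlgSp.yon S).map_surjective sq.bot
  have hc : sq.top ≫ d = (AlgSp.yon S).map (gen sq.A sq.K sq.str) ≫ (AlgSp.yon S).map b := by
    rw [hb]; exact sq.comm
  obtain ⟨l, hl₁, hl₂'⟩ := exists_lift_of_isoExt f h𝒳 h𝒴 hd he sq.str b sq.top
    ((congrArg (sq.top ≫ ·) hde).symm.trans hc) hext
  have hl₂ := (congrArg (l ≫ ·) hde).trans hl₂'
  exact ⟨⟨l, hl₁, hl₂.trans hb⟩,
    fun l₁ l₂ a₁ c₁ a₂ c₂ => point_ext hsep (c₁.trans c₂.symm) hd' (a₁.trans a₂.symm)⟩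

theorem isSeparatedMor_of_fIsoSq {𝒳' 𝒴' : AlgSt.Cat S} {f' : 𝒳' ⥤ᵇ 𝒴'}
    (h𝒳 : AlgSt.IsAlgStack Scheme.fppfPrecoverage 𝒳) (h𝒴 : AlgSt.IsAlgStack Scheme.fppfPrecoverage 𝒴)
    (h𝒳' : AlgSt.IsAlgStack Scheme.fppfPrecoverage 𝒳')
    (h𝒳'd : AlgSt.RepByAlgSpWith (AlgSp.IsSeparatedMor ⊓ AlgSp.IsQuasiCompactMor)
      (FibCat.diag (FibCat.toSelf 𝒳')))
    (h𝒴' : AlgSt.IsAlgStack Scheme.fppfPrecoverage 𝒴')
    (h𝒴'd : AlgSt.RepByAlgSpWith (AlgSp.IsSeparatedMor ⊓ AlgSp.IsQuasiCompactMor)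
      (FibCat.diag (FibCat.toSelf 𝒴')))
    (φ : IsoNat.FIsoSq f f') (hft' : AlgSt.LocQ (AlgSp.LocP @LocallyOfFiniteType) f')
    (hN' : AlgSt.SmoothLocally (fun X => IsLocallyNoetherian X) 𝒴') (hf : AlgSt.IsSeparatedMor f) :
    AlgSt.IsSeparatedMor f' := by
  have hP := isAlgStack_fp h𝒳' h𝒳' h𝒴' f' f'
  have hNX := smoothLocally_noetherian_of_locQ_lft h𝒳' hft' hN'
  have hNP := smoothLocally_noetherian_of_locQ_lft hP
    (locQ_fpFst isSmoothLocalST_lft (pBase_locP Groth.L23.etLocal_lft) h𝒳' h𝒴' h𝒳' f' hft') hNX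
  obtain ⟨V, v, hv, hvs⟩ := hP.atlas
  have : IsLocallyNoetherian V.left := hNP V v hv
  have hflat : AlgSt.RepByAlgSpWith (AlgSp.LocP @Flat) v :=
    repWith_mono (fun _ _ _ _ h => Groth.L23.locP_mono (fun {A B} (φ : A ⟶ B) (hf : Smooth φ) => (inferInstance : Flat φ)) h) hv
  have hlfp : AlgSt.RepByAlgSpWith (AlgSp.LocP @LocallyOfFinitePresentation) v :=
    repWith_mono (fun _ _ _ _ h => Groth.L23.locP_mono (fun {A B} (φ : A ⟶ B) (hf : Smooth φ) => (inferInstance : LocallyOfFinitePresentation φ)) h) hv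
  have hd := diag_sep_qc h𝒳'd h𝒴'd f'
  refine (repWith_iff_fpFst_cover pBase_proper Groth.L24.Alg.isLocalOnBase_fppf_proper h𝒳'.isStack.1 hP.isStack.1
    (isAlgStack_overCat V).isStack.1 (repWith_rep1 hd) hflat hlfp hvs).2 ?_
  obtain ⟨F, e, he, ⟨hs, hqc⟩, hl⟩ :=
    repWith_inf (pBase_locP Groth.L23.etLocal_lft) hd (diag_lft h𝒳' h𝒴' f') V v
  let d := AlgSt.spMapOfOver (BasedFunctor.comp e (FibCat.fpFst v (FibCat.diag f')))
  have hY : AlgSp.IsLocNoethSp ((AlgSp.yon S).obj V) :=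
    ⟨V, 𝟙 _, Groth.L23.repWith_of_isIso _, Groth.L23.repWith_of_isIso _, inferInstance⟩
  have hd' : AlgSp.IsProperMor d := by
    refine (Groth.Agent.S10065.result S (X := F) (Y := ⟨_, AlgSp.IsAlgSpace.yon_obj V⟩)
      (ObjectProperty.homMk d) (qs_of_sep hs) ⟨hl, hqc⟩ hY).2 fun sq hA => ?_
    have := hA
    exact @valSq_of_isoExt _ _ _ _ h𝒳'.isStack.1 h𝒴'.isStack.1 h𝒴'd _ _ _ _ he _ rfl hs sq hA
      (isoExt_of_sqTriv (gen sq.A sq.K sq.str) f' h𝒳'.isStack h𝒴'.isStack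
        (sqTriv_fIsoSq (gen sq.A sq.K sq.str) φ h𝒳.isStack.1 h𝒴.isStack.1 h𝒳'.isStack.1 h𝒴'.isStack.1
          (sqTriv_of_isoExt (gen sq.A sq.K sq.str) f h𝒳.isStack h𝒴.isStack.1
            (isoExt_of_separated f h𝒳.isStack.1 h𝒴.isStack.1 hf sq.A sq.K sq.str))))
  refine (repWith_precomp he _).1 ((repWith_congr (overFactor _)).2 ((repWith_postcomp (toOverCat_isEquivOver V) _).2 ?_))
  exact repWith_ofSpMap_of_prop pBase_proper F.property (AlgSp.IsAlgSpace.yon_obj V) _ hd'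

end Groth.L11.IsoNat.Dbl
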