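import Groth.Agent.L11.IsoNat.Dbl.Criterion

/-!
Isomorphisms over an open part with prescribed image extend iff objects over the doubled scheme with constant image
are constant.
-/

set_option autoImplicit false
set_option backward.isDefEq.respectTransparency false
set_option backward.isDefEq.respectTransparency.types false

universe u

open CategoryTheory CategoryTheory.Limits AlgebraicGeometry Groth.L24.St

noncomputable section

namespace Groth.L11.IsoNat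

variable {S : Scheme.{u}} {𝒳 𝒴 : AlgSt.Cat S} {W : Over S}

/-- The image of an isomorphism of charts. -/
def IsoPt.map (f : 𝒳 ⥤ᵇ 𝒴) {G₁ G₂ : FibCat.overCat W ⥤ᵇ 𝒳} {T : Over S} {a : T ⟶ W} (g : IsoPt G₁ G₂ a) :
    IsoPt (BasedFunctor.comp G₁ f) (BasedFunctor.comp G₂ f) a := ⟨f.toFunctor.mapIso g.g, g.hg.map f⟩

theorem IRestr.map (f : 𝒳 ⥤ᵇ 𝒴) {G₁ G₂ : FibCat.overCat W ⥤ᵇ 𝒳} {T' T : Over S} {r : T' ⟶ T} {a' : T' ⟶ W}
    {a : T ⟶ W} {g' : IsoPt G₁ G₂ a'} {g : IsoPt G₁ G₂ a} (h : IRestr r g' g) :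
    IRestr r (g'.map f) (g.map f) := by
  obtain ⟨q, hq⟩ := h
  refine ⟨q, ?_⟩
  show f.map g'.g.hom ≫ f.map (G₂.map _) = f.map (G₁.map _) ≫ f.map g.g.hom
  exact (f.toFunctor.map_comp _ _).symm.trans ((congrArg f.map hq).trans (f.toFunctor.map_comp _ _))

theorem IsoPt.ext' {G₁ G₂ : FibCat.overCat W ⥤ᵇ 𝒳} {T : Over S} {a : T ⟶ W} {p q : IsoPt G₁ G₂ a}
    (h : p.g.hom = q.g.hom) : p = q := by
  obtain ⟨p, _⟩ := p
  obtain ⟨q, _⟩ := q
  obtain rfl : p = q := Iso.ext h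
  rfl

/-- The image of a family. -/
def Fam.map {C : Over S} {P : Sieve C} (f : 𝒳 ⥤ᵇ 𝒴) {H G : FibCat.overCat C ⥤ᵇ 𝒳} (γ : Fam P H G) :
    Fam P (BasedFunctor.comp H f) (BasedFunctor.comp G f) where
  app k hk := f.map (γ.app k hk)
  lift k hk := (BasedFunctor.isHomLift_iff f _ _).2 (γ.lift k hk)
  nat {k l} n hk hl := by
    show f.map (H.map n) ≫ f.map (γ.app l hl) = f.map (γ.app k hk) ≫ f.map (G.map n)
    exact (f.toFunctor.map_comp _ _).symm.trans ((congrArg f.map (γ.nat n hk hl)).trans (f.toFunctor.map_comp _ _))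

theorem mapCls_pullC (h𝒳 : FibCat.IsFibGrpd 𝒳.p) (h𝒴 : FibCat.IsFibGrpd 𝒴.p) (f : 𝒳 ⥤ᵇ 𝒴) {T T' : Over S}
    (g : T' ⟶ T) (c : IsoNat.IsoCl 𝒳 T) :
    IsoNat.mapCls f T' (pullC h𝒳 g c) = pullC h𝒴 g (IsoNat.mapCls f T c) := by
  obtain ⟨x, rfl⟩ := cls_surjective c
  obtain ⟨x', a, ha⟩ := exists_pullback h𝒳 g x
  have : 𝒴.p.IsHomLift g (f.map a) := (BasedFunctor.isHomLift_iff f g a).2 ha
  rw [pullC_cls h𝒳 g a, mapCls_cls, mapCls_cls]
  exact (pullC_cls h𝒴 g (x' := ⟨f.obj x'.1, (f.w_obj x'.1).trans x'.2⟩) (f.map a)).symm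

namespace Dbl

variable {V : Over S} (j : V ⟶ W) [IsOpenImmersion j.left]

theorem eq_valAt_comp {h : FibCat.IsFibGrpd 𝒳.p} {P : Sieve (Co j)} {G₁ G₂ : FibCat.overCat W ⥤ᵇ 𝒳}
    {φ φ' : Fam P (GD j G₁) (GD j G₂)} {Q : Over S} {σ : Q ⟶ Co j} {hσ : P σ}
    (e : φ.app (Over.mk σ) hσ = φ'.app (Over.mk σ) hσ) : valAt h φ σ hσ = valAt h φ' σ hσ :=
  IsoPt.ext' e

/-- The comparison over the open part of the two trivialisations of an object extends when the object is constant. -/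
theorem exists_iso_of_const (h : FibCat.IsFibGrpd 𝒳.p) {H : FibCat.overCat (Co j) ⥤ᵇ 𝒳}
    (G : Bool → (FibCat.overCat W ⥤ᵇ 𝒳)) (M : FibCat.overCat W ⥤ᵇ 𝒳) (γ : ∀ b, Fam ((cover j).P b) H (GD j (G b)))
    (ι : H ≅ GD j M) :
    ∃ β : IsoPt (G true) (G false) (𝟙 W), ∀ (α : Fam ((cover j).I ⟨⟩) (GD j (G true)) (GD j (G false))),
      (∀ (k : Over (Co j)) (hk : (cover j).I ⟨⟩ k.hom), (γ true).app k ((cover j).le ⟨⟩ true _ hk) ≫ α.app k hk =
        (γ false).app k ((cover j).le ⟨⟩ false _ hk)) →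
      IRestr j (valAt h α (j ≫ incl j true) (j_incl_mem j)) β := by
  let ψ : ∀ b, Fam ((cover j).P b) (GD j (G b)) (GD j M) := fun b => ((γ b).inv h).comp (Fam.ofNat _ ι.hom)
  have key : ∀ b, ∃ v : IsoPt (G b) M (𝟙 W), IRestr (𝟙 W) v (valAt h (ψ b) (incl j b) (incl_mem j b)) :=
    fun b => exists_iRestr h (𝟙 W) (by simp) _
  choose v hv using key
  have hσ : ∀ b, (cover j).P b (j ≫ incl j true) := fun b => (cover j).le ⟨⟩ b _ (j_incl_mem j)
  have hre : ∀ b, IRestr j (valAt h (ψ b) (j ≫ incl j true) (hσ b))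
      (valAt h (ψ b) (incl j b) (incl_mem j b)) := fun b =>
    valAt_restr h (ψ b) j _ _ (by cases b; exacts [(j_incl j).symm, rfl])
  have hre' : ∀ b, IRestr j (valAt h (ψ b) (j ≫ incl j true) (hσ b)) (v b) := fun b =>
    IRestr.of_comp h (by simp) (by rw [Category.comp_id]; exact hre b) (hv b)
  refine ⟨(v true).comp (v false).symm, fun α hα => ?_⟩
  have h2 := (hre' true).comp (hre' false).symm
  have heq : (valAt h (ψ true) (j ≫ incl j true) (hσ true)).comp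
      (valAt h (ψ false) (j ≫ incl j true) (hσ false)).symm = valAt h α (j ≫ incl j true) (j_incl_mem j) := by
    refine IsoPt.ext' ?_
    show (valAt h (ψ true) _ (hσ true)).g.hom ≫ (valAt h (ψ false) _ (hσ false)).g.inv = _
    rw [Iso.comp_inv_eq, valAt_eq_of_lift, valAt_eq_of_lift, valAt_eq_of_lift]
    show ((γ true).inv h).app _ _ ≫ _ = α.app _ _ ≫ ((γ false).inv h).app _ _ ≫ _
    rw [← Category.assoc (α.app _ _)]
    congr 1
    have := isIso_vert h _ ((γ false).lift (Over.mk (j ≫ incl j true)) (hσ false))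
    show ((γ true).inv h).app _ _ = α.app _ _ ≫ inv ((γ false).app _ _)
    rw [IsIso.eq_comp_inv, ← hα _ (j_incl_mem j)]
    exact Fam.inv_comp_assoc h (γ true) _ _ _
  rwa [heq] at h2

/-- Isomorphisms over `V` whose image extends, extend. -/
def IsoExt (f : 𝒳 ⥤ᵇ 𝒴) : Prop :=
  ∀ (G₁ G₂ : FibCat.overCat W ⥤ᵇ 𝒳) (α : IsoPt G₁ G₂ j)
    (θ : IsoPt (BasedFunctor.comp G₁ f) (BasedFunctor.comp G₂ f) (𝟙 W)), IRestr j (α.map f) θ →
    ∃ β : IsoPt G₁ G₂ (𝟙 W), IRestr j α β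

/-- Objects over the doubled scheme with constant image are constant. -/
def SqTriv (f : 𝒳 ⥤ᵇ 𝒴) (h𝒳 : FibCat.IsFibGrpd 𝒳.p) (h𝒴 : FibCat.IsFibGrpd 𝒴.p) : Prop :=
  ∀ c : IsoNat.IsoCl 𝒳 (Co j), (∃ d₀, IsoNat.mapCls f (Co j) c = pullC h𝒴 (proj j) d₀) →
    ∃ c₀, c = pullC h𝒳 (proj j) c₀

theorem sqTriv_fIsoSq {𝒳' 𝒴' : AlgSt.Cat S} {f : 𝒳 ⥤ᵇ 𝒴} {f' : 𝒳' ⥤ᵇ 𝒴'} (φ : IsoNat.FIsoSq f f')
    (h𝒳 : FibCat.IsFibGrpd 𝒳.p) (h𝒴 : FibCat.IsFibGrpd 𝒴.p) (h𝒳' : FibCat.IsFibGrpd 𝒳'.p)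
    (h𝒴' : FibCat.IsFibGrpd 𝒴'.p) (hf : SqTriv j f h𝒳 h𝒴) : SqTriv j f' h𝒳' h𝒴' := by
  intro c' ⟨d₀', hd⟩
  obtain ⟨c, rfl⟩ := (φ.src.toEquiv _).surjective c'
  obtain ⟨d₀, rfl⟩ := (φ.tgt.toEquiv W).surjective d₀'
  obtain ⟨c₀, rfl⟩ := hf c ⟨d₀, (φ.tgt.toEquiv _).injective (by rw [φ.comm, hd, fIso_pullC φ.tgt h𝒴 h𝒴'])⟩
  exact ⟨_, fIso_pullC φ.src h𝒳 h𝒳' _ _⟩

theorem sqTriv_of_isoExt (f : 𝒳 ⥤ᵇ 𝒴) (hst : Stk.IsStack (AlgSp.J S) 𝒳) (h𝒴 : FibCat.IsFibGrpd 𝒴.p)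
    (he : IsoExt j f) : SqTriv j f hst.1 h𝒴 := by
  intro c ⟨d₀, hd⟩
  obtain ⟨M, rfl⟩ := exists_chart h𝒴 d₀
  obtain ⟨H, rfl⟩ := exists_chart hst.1 c
  obtain ⟨ι⟩ := exists_iso_of_objCls h𝒴 (H := BasedFunctor.comp H f) (H' := GD j M)
    (by rw [← pullC_objCls h𝒴]; exact hd)
  let G : Bool → (FibCat.overCat W ⥤ᵇ 𝒳) := fun b => BasedFunctor.comp (AlgSt.overMap (incl j b)) H
  let γ : ∀ b, Fam ((cover j).P b) H (GD j (G b)) := fun b => famOfCopy j b (𝟙 (G b))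
  let δ : Fam ((cover j).I ⟨⟩) (GD j (G true)) (GD j (G false)) :=
    { app := fun k hk => ((γ true).inv hst.1).app k hk.1 ≫ (γ false).app k hk.2
      lift := fun k hk => by
        have := ((γ true).inv hst.1).lift k hk.1
        have := (γ false).lift k hk.2
        exact vert_comp (Q := k.left) _ _
      nat := fun {k l} n hk hl => by
        rw [← Category.assoc, ((γ true).inv hst.1).nat n hk.1 hl.1, Category.assoc, (γ false).nat n hk.2 hl.2,
          Category.assoc] }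
  have hδ : ∀ (k : Over (Co j)) (hk : (cover j).I ⟨⟩ k.hom), (γ true).app k hk.1 ≫ δ.app k hk = (γ false).app k hk.2 :=
    fun k hk => Fam.comp_inv_assoc hst.1 (γ true) k hk.1 _
  obtain ⟨θ, hθ⟩ := exists_iso_of_const j h𝒴 (H := BasedFunctor.comp H f) (fun b => BasedFunctor.comp (G b) f) M
    (fun b => (γ b).map f) ι
  have hθ' := hθ (δ.map f) fun k hk =>
    show f.map ((γ true).app k _) ≫ f.map (δ.app k hk) = f.map ((γ false).app k _) from
      (f.toFunctor.map_comp _ _).symm.trans (congrArg f.map (hδ k hk))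
  let α₀ := valAt hst.1 δ (j ≫ incl j true) (j_incl_mem j)
  obtain ⟨α, hα⟩ := exists_iRestr hst.1 (𝟙 V) (a' := j) (a := (j ≫ incl j true) ≫ proj j) (by simp) α₀
  have hback : IRestr (𝟙 V) α₀ α :=
    IRestr.of_comp hst.1 (by simp) (by rw [Category.id_comp]; exact IRestr.refl _) hα
  have hαθ : IRestr j (α.map f) θ := by
    have e0 : IRestr j (α₀.map f) θ := by
      have : α₀.map f = valAt h𝒴 (δ.map f) (j ≫ incl j true) (j_incl_mem j) := IsoPt.ext' rfl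
      rw [this]; exact hθ'
    simpa using (hα.map f).trans e0
  obtain ⟨β, hβ⟩ := he _ _ α θ hαθ
  have hδβ : IRestr j α₀ β := by simpa using hback.trans hβ
  obtain ⟨ψ, hψ⟩ := exists_famOfPt hst.1 (P := (⊤ : Sieve (Co j))) β
    fun Q q _ => ⟨q ≫ proj j, Category.comp_id _⟩
  let ε : ∀ b, Fam ((cover j).P b) H (GD j (G false)) := fun b =>
    match b with
    | true => (γ true).comp
        { app := fun k hk => ψ.app k trivial
          lift := fun k hk => ψ.lift k trivial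
          nat := fun n hk hl => ψ.nat n trivial trivial }
    | false => γ false
  obtain ⟨Θ, -⟩ := glue_hom hst (cover j) ε fun i k hk => by
    show (γ true).app k _ ≫ ψ.app k trivial = (γ false).app k _
    suffices hh : ψ.app k trivial = δ.app k hk by rw [hh]; exact hδ k hk
    obtain ⟨r, hr⟩ := exists_fac j k.hom hk
    have hkr : r ≫ j ≫ incl j true = k.hom := by
      obtain ⟨l, hl⟩ := hk.1
      rw [← Category.assoc, hr, ← hl]; simp only [Category.assoc, incl_proj_assoc]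
    have h1 : IRestr (k.hom ≫ proj j) (valAt hst.1 ψ k.hom trivial) β := hψ k.hom trivial _ (Category.comp_id _)
    have h2 : IRestr (r ≫ j) (valAt hst.1 δ k.hom hk) β :=
      (valAt_restr hst.1 δ r hk (j_incl_mem j) hkr).trans hδβ
    rw [hr] at h2
    exact congrArg (fun t => t.g.hom) (IRestr.unique hst.1 h1 h2)
  obtain ⟨i⟩ := isIso_natTrans hst.1 Θ
  exact ⟨IsoNat.objCls (G false), by rw [pullC_objCls hst.1]; exact objCls_eq_of_iso i⟩

theorem isoExt_of_sqTriv (f : 𝒳 ⥤ᵇ 𝒴) (hst : Stk.IsStack (AlgSp.J S) 𝒳) (hst' : Stk.IsStack (AlgSp.J S) 𝒴)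
    (hc : SqTriv j f hst.1 hst'.1) : IsoExt j f := by
  intro G₁ G₂ α θ hαθ
  have := mono_j j
  let G : Bool → (FibCat.overCat W ⥤ᵇ 𝒳) := fun b => if b then G₁ else G₂
  obtain ⟨a, ha⟩ := exists_famOfPt hst.1 (P := (cover j).P true ⊓ (cover j).P false) (G₁ := G₁) (G₂ := G₂) α
    fun Q q hq => exists_fac j q hq
  obtain ⟨H, γ, hγ⟩ := exists_glue₂ (fun b => GD j (G b)) a hst (cover j).cover
  obtain ⟨t, ht⟩ := exists_famOfPt hst'.1 (P := (⊤ : Sieve (Co j))) θ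
    fun Q q _ => ⟨q ≫ proj j, Category.comp_id _⟩
  let ε : ∀ b, Fam ((cover j).P b) (BasedFunctor.comp H f) (GD j (BasedFunctor.comp G₂ f)) := fun b =>
    match b with
    | true => ((γ true).map f).comp
        { app := fun k hk => t.app k trivial
          lift := fun k hk => t.lift k trivial
          nat := fun n hk hl => t.nat n trivial trivial }
    | false => (γ false).map f
  obtain ⟨Θ, -⟩ := glue_hom hst' (cover j) ε fun i k hk => by
    show f.map ((γ true).app k _) ≫ t.app k trivial = f.map ((γ false).app k _)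
    suffices hh : t.app k trivial = f.map (a.app k hk) by
      rw [hh, ← hγ k hk.1 hk.2]
      exact (f.toFunctor.map_comp _ _).symm
    obtain ⟨r, hr⟩ := exists_fac j k.hom hk
    have h1 : IRestr (k.hom ≫ proj j) (valAt hst'.1 t k.hom trivial) θ := ht k.hom trivial _ (Category.comp_id _)
    have h2 : IRestr (r ≫ j) ((valAt hst.1 a k.hom hk).map f) θ := ((ha k.hom hk r hr).map f).trans hαθ
    rw [hr] at h2
    exact congrArg (fun t => t.g.hom) (IRestr.unique hst'.1 h1 h2)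
  obtain ⟨i⟩ := isIso_natTrans hst'.1 Θ
  obtain ⟨c₀, hc₀⟩ := hc (IsoNat.objCls H) ⟨IsoNat.objCls (BasedFunctor.comp G₂ f), by
    rw [pullC_objCls hst'.1]
    exact objCls_eq_of_iso i⟩
  obtain ⟨M, rfl⟩ := exists_chart hst.1 c₀
  rw [pullC_objCls hst.1] at hc₀
  obtain ⟨ι⟩ := exists_iso_of_objCls hst.1 hc₀
  obtain ⟨β, hβ⟩ := exists_iso_of_const j hst.1 G M γ ι
  refine ⟨β, ?_⟩
  have h2 := hβ a fun k hk => hγ k hk.1 hk.2
  have hα' := ha (j ≫ incl j true) (j_incl_mem j) (𝟙 V) (by simp)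
  have hback : IRestr (𝟙 V) α (valAt hst.1 a (j ≫ incl j true) (j_incl_mem j)) :=
    IRestr.of_comp hst.1 (by simp) (by rw [Category.id_comp]; exact IRestr.refl _) hα'
  simpa using hback.trans h2

end Dbl

end Groth.L11.IsoNat
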